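import Mathlib
import Cfsg.Agent.Lib.MC.MCDefs
import Cfsg.Agent.Lib.Helper10.Alperin

/-!
# S3865 (design: helper18): Sylow `p`-subgroups of maximal class, definitions

`UnifHyp p n Y H₁ H₂`: the uniform elements of `Y` (maximal class, order `p ^ n`) are exactly the elements outside
the two subgroups `H₁`, `H₂` of index `p` (`H₁ = M_2`, `H₂ = M_{n-2}` for `p` odd; `H₁ = H₂ =` the cyclic maximal
subgroup for `p = 2`).

`fnFam P`: the subgroups `U ≤ P` with `N_P(U)` of `p'`-index in `N_G(U)` (fully normalized subgroups).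
-/

set_option autoImplicit false

namespace Cfsg.Agent.Helper18.MCQ

open Cfsg.Agent.Helper21.MC

/-- the uniform elements are the elements outside `H₁ ∪ H₂` -/
structure UnifHyp (p n : ℕ) (Y : Type*) [Group Y] (H₁ H₂ : Subgroup Y) : Prop where
  idx₁ : H₁.index = p
  idx₂ : H₂.index = p
  le₁ : K Y 2 ≤ H₁
  le₂ : K Y 2 ≤ H₂
  unif : ∀ g : Y, IsUniform n Y g ↔ g ∉ H₁ ∧ g ∉ H₂
  two : p = 2 → H₁ = H₂

/-- the fully normalized subgroups of the Sylow subgroup `P` -/
def fnFam {G : Type*} [Group G] {p : ℕ} (P : Sylow p G) : Set (Subgroup G) :=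
  {U | U ≤ (P : Subgroup G) ∧
    ¬ p ∣ ((P : Subgroup G) ⊓ Subgroup.normalizer (U : Set G)).relIndex (Subgroup.normalizer (U : Set G))}

/-- no element of `P` has a centralizer whose order has `p`-part `p ^ 2` -/
def NoGood {G : Type*} [Group G] (p : ℕ) (P : Sylow p G) : Prop :=
  ∀ x ∈ (P : Subgroup G), (Nat.card (Subgroup.centralizer ({x} : Set G))).factorization p ≠ 2

/-- the dichotomy for the normal subgroups of `G` -/
def NormDich {G : Type*} [Group G] (p : ℕ) (P : Sylow p G) : Prop :=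
  ∀ N : Subgroup G, N.Normal → N = ⊤ ∨ (N ≤ (P : Subgroup G) ∧ N ≤ Subgroup.center G ∧ Nat.card N ≤ p)

end Cfsg.Agent.Helper18.MCQ
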