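import Mathlib
import Cfsg.Agent.Lib.MCQ.MCQDefs
import Cfsg.Agent.Lib.MC.MCK

/-!
# PIECE MCQ-AUTU (small): automorphisms preserve uniform elements

`(K Y i).map φ = K Y i` for an automorphism `φ` (`K_map φ.toMonoidHom φ.surjective i`).  Hence `InM Y i (φ g) ↔ InM Y i g`:
for `a ∈ K Y i` write `a = φ b`, `b ∈ K Y i`; `⁅φ b, φ g⁆ = φ ⁅b, g⁆ ∈ K (i+2) ↔ ⁅b, g⁆ ∈ K (i+2)`.  Unfold `IsUniform`.
-/

set_option autoImplicit false

namespace Cfsg.Agent.Helper18.MCQ

open Cfsg.Agent.Helper21.MC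
open scoped commutatorElement

variable {Y : Type*} [Group Y] {n : ℕ}

theorem isUniform_mulEquiv (φ : Y ≃* Y) (s : Y) : IsUniform n Y (φ s) ↔ IsUniform n Y s := by
  have hK : ∀ (ψ : Y ≃* Y) (i : ℕ) (a : Y), ψ a ∈ K Y i ↔ a ∈ K Y i := by
    intro ψ i a
    constructor
    · intro h
      have h1 : (K Y i).map ψ.toMonoidHom = K Y i := K_map ψ.toMonoidHom ψ.surjective i
      rw [← h1] at h
      obtain ⟨b, hb, hba⟩ := h
      have : b = a := ψ.injective hba
      rw [← this]; exact hb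
    · intro h
      have h1 : (K Y i).map ψ.toMonoidHom = K Y i := K_map ψ.toMonoidHom ψ.surjective i
      rw [← h1]
      exact ⟨a, h, rfl⟩
  have hM : ∀ i, InM Y i (φ s) ↔ InM Y i s := by
    intro i
    constructor
    · intro h a ha
      have h1 := h (φ a) ((hK φ i a).mpr ha)
      rw [← map_commutatorElement] at h1
      exact (hK φ (i + 2) _).mp h1
    · intro h a ha
      obtain ⟨b, rfl⟩ := φ.surjective a
      have h1 := h b ((hK φ i b).mp ha)
      rw [← map_commutatorElement]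
      exact (hK φ (i + 2) _).mpr h1
  unfold IsUniform
  constructor
  · intro h i hi hin hM'
    exact h i hi hin ((hM i).mpr hM')
  · intro h i hi hin hM'
    exact h i hi hin ((hM i).mp hM')

end Cfsg.Agent.Helper18.MCQ
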