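import Mathlib
import Cfsg.Agent.Lib.MCQ.MCQDefs

/-!
# PIECE MCQ-CENT (small-medium; done by helper15): a normal subgroup of order at most `p` is central when `O^{p'}(G) = G`

If `N = ⊥` trivial.  Otherwise `|N| = p` (`N ≤ P` is a `p`-group, `1 < |N| ≤ p`), so `N` is cyclic of prime order and
`Nat.card (MulAut N) = p - 1` (`IsCyclic.card_mulAut` and `Nat.totient_prime`).  The conjugation action
`MulAut.conjNormal : G →* MulAut N` has kernel `C := Subgroup.centralizer N` (as a set of elements commuting with all of `N`), which is normal,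
and `C.index = Nat.card (range) ∣ p - 1`, coprime to `p`; so `C = ⊤` by `hres`, i.e. `N ≤ center G`.
(Alternative: every `p`-element `g` centralizes `N` because `N ⊔ zpowers g` is a `p`-group in which the normal subgroup `N` of order `p` is
central; and the subgroup generated by the `p`-elements is normal of `p'`-index, so is `⊤`.)
-/

set_option autoImplicit false

namespace Cfsg.Agent.Helper18.MCQ

variable {G : Type*} [Group G] [Finite G] {p : ℕ} [Fact p.Prime]

theorem le_center_of_card_le (P : Sylow p G)
    (hres : ∀ N : Subgroup G, N.Normal → (N.index).Coprime p → N = ⊤) (N : Subgroup G) [N.Normal]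
    (hNP : N ≤ (P : Subgroup G)) (hcard : Nat.card N ≤ p) : N ≤ Subgroup.center G := by
  have hp : p.Prime := Fact.out
  by_cases hbot : N = ⊥
  · rw [hbot]
    exact bot_le
  -- `|N| = p`
  have hNp : IsPGroup p N := P.isPGroup'.to_le hNP
  obtain ⟨k, hk⟩ := hNp.exists_card_eq
  have hk1 : k = 1 := by
    have h0 : k ≠ 0 := by
      rintro rfl
      rw [pow_zero] at hk
      exact hbot (Subgroup.eq_bot_of_card_eq N hk)
    have h1 : p ^ k ≤ p ^ 1 := by
      rw [pow_one, ← hk]
      exact hcard
    have h2 := (Nat.pow_le_pow_iff_right hp.one_lt).1 h1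
    omega
  rw [hk1, pow_one] at hk
  have hcyc : IsCyclic N := isCyclic_of_prime_card hk
  have hAut : Nat.card (MulAut N) = p - 1 := by
    rw [IsCyclic.card_mulAut, hk, Nat.totient_prime hp]
  -- the kernel of the conjugation action has index prime to `p`
  have hcop : ((MulAut.conjNormal (H := N)).ker.index).Coprime p := by
    rw [Subgroup.index_ker]
    have hdvd : Nat.card (MulAut.conjNormal (H := N)).range ∣ p - 1 := by
      rw [← hAut]
      exact Subgroup.card_subgroup_dvd_card _
    have h1 : Nat.Coprime (p - 1) p := by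
      rw [Nat.coprime_comm, Nat.Prime.coprime_iff_not_dvd hp]
      have := hp.two_le
      exact Nat.not_dvd_of_pos_of_lt (by omega) (by omega)
    exact Nat.Coprime.coprime_dvd_left hdvd h1
  have htop := hres _ (MonoidHom.normal_ker _) hcop
  intro n hn
  rw [Subgroup.mem_center_iff]
  intro g
  have hg : g ∈ (MulAut.conjNormal (H := N)).ker := by
    rw [htop]
    trivial
  rw [MonoidHom.mem_ker] at hg
  have h1 := congrArg (fun β : MulAut N => ((β ⟨n, hn⟩ : N) : G)) hg
  simp only [MulAut.conjNormal_apply, MulAut.one_apply] at h1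
  calc g * n = g * n * g⁻¹ * g := by group
    _ = n * g := by rw [h1]

end Cfsg.Agent.Helper18.MCQ
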