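import Mathlib
import Cfsg.Agent.Lib.MCQ.MCQDefs
import Cfsg.Agent.Lib.MC.MCFrat

/-!
# PIECE MCQ-GENU (small-medium): the uniform elements generate `Y`

Let `L` contain every uniform element, i.e. (by `hU.unif`) every `s ∉ H₁ ∪ H₂`.  Fix `s₀ ∉ H₁ ∪ H₂`
(`exists_not_mem_two H₁ H₂ hU.idx₁ hU.idx₂`).  `H₁`, `H₂` are normal (index `p` in a `p`-group; or: they contain
`K Y 2 = commutator Y`), and `s₀ ^ p ∈ K Y 2 ≤ H_j` (`pow_p_mem_K_two`), `s₀ ∉ H_j`.  For `y : Y` and `j = 1, 2` there is at most one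
`k ∈ {0, …, p - 1}` with `y * s₀ ^ k ∈ H_j` (two such `k < k'` give `s₀ ^ (k' - k) ∈ H_j`, hence `s₀ ∈ H_j` as `k' - k` is prime
to `p` and `s₀ ^ p ∈ H_j`).  If `p ≥ 3` some `k ∈ {0,1,2}` is good for both `j`; if `p = 2` then `H₁ = H₂` (`hU.two`) and some
`k ∈ {0,1}` is good.  Then `y * s₀ ^ k ∈ L` and `s₀ ∈ L`, so `y ∈ L`.
(Alternative: count `|Y \ (H₁ ∪ H₂)| > |Y| / p`.)
-/

set_option autoImplicit false

namespace Cfsg.Agent.Helper18.MCQ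

open Cfsg.Agent.Helper21.MC

variable {Y : Type*} [Group Y] [Finite Y] {p : ℕ} [Fact p.Prime] {n : ℕ}

theorem eq_top_of_uniform_mem (hn : 4 ≤ n) (hY : IsMC p n Y) {H₁ H₂ : Subgroup Y}
    (hU : UnifHyp p n Y H₁ H₂) (L : Subgroup Y) (hL : ∀ s : Y, IsUniform n Y s → s ∈ L) : L = ⊤ := by
  have hp : p.Prime := Fact.out
  have hn3 : 3 ≤ n := by omega
  obtain ⟨s₀, hs1, hs2⟩ := exists_not_mem_two H₁ H₂ hU.idx₁ hU.idx₂
  have hs0L : s₀ ∈ L := hL s₀ ((hU.unif s₀).mpr ⟨hs1, hs2⟩)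
  have hpow1 : s₀ ^ p ∈ H₁ := hU.le₁ (pow_p_mem_K_two hn3 hY s₀)
  have hpow2 : s₀ ^ p ∈ H₂ := hU.le₂ (pow_p_mem_K_two hn3 hY s₀)
  -- membership in `L` from a good `k`
  have key : ∀ (y : Y) (k : ℕ), y * s₀ ^ k ∉ H₁ → y * s₀ ^ k ∉ H₂ → y ∈ L := by
    intro y k h1 h2
    have h3 : y * s₀ ^ k ∈ L := hL _ ((hU.unif _).mpr ⟨h1, h2⟩)
    have h4 : y = y * s₀ ^ k * (s₀ ^ k)⁻¹ := by group
    rw [h4]
    exact L.mul_mem h3 (L.inv_mem (L.pow_mem hs0L k))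
  rw [Subgroup.eq_top_iff']
  intro y
  by_cases hp2 : p = 2
  · have hH : H₁ = H₂ := hU.two hp2
    by_cases hy : y ∈ H₁
    · apply key y 1
      · intro h
        apply hs1
        have h5 : s₀ = y⁻¹ * (y * s₀ ^ 1) := by group
        rw [h5]
        exact H₁.mul_mem (H₁.inv_mem hy) h
      · intro h
        rw [← hH] at h
        apply hs1
        have h5 : s₀ = y⁻¹ * (y * s₀ ^ 1) := by group
        rw [h5]
        exact H₁.mul_mem (H₁.inv_mem hy) h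
    · apply key y 0
      · simpa using hy
      · rw [← hH]; simpa using hy
  · -- `p` odd
    have hodd : Odd p := hp.odd_of_ne_two hp2
    obtain ⟨m, hm⟩ := hodd
    -- `s₀ ^ 2 ∉ H_j`
    have hsq : ∀ H : Subgroup Y, s₀ ∉ H → s₀ ^ p ∈ H → s₀ ^ 2 ∉ H := by
      intro H hs hpw h2
      apply hs
      have h6 : s₀ = s₀ ^ p * ((s₀ ^ 2) ^ m)⁻¹ := by
        rw [← pow_mul, hm, pow_succ', mul_inv_cancel_right]
      rw [h6]
      exact H.mul_mem hpw (H.inv_mem (H.pow_mem h2 m))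
    have hsq1 := hsq H₁ hs1 hpow1
    have hsq2 := hsq H₂ hs2 hpow2
    -- for each `H`, at most one `k ∈ {0,1,2}` with `y * s₀ ^ k ∈ H`
    have huniq : ∀ H : Subgroup Y, s₀ ∉ H → s₀ ^ 2 ∉ H →
        (y ∈ H → y * s₀ ^ 1 ∉ H ∧ y * s₀ ^ 2 ∉ H) ∧ (y * s₀ ^ 1 ∈ H → y * s₀ ^ 2 ∉ H) := by
      intro H hs hs2'
      refine ⟨fun hy => ⟨fun h => ?_, fun h => ?_⟩, fun h1 h2 => ?_⟩
      · apply hs
        have h5 : s₀ = y⁻¹ * (y * s₀ ^ 1) := by group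
        rw [h5]
        exact H.mul_mem (H.inv_mem hy) h
      · apply hs2'
        have h5 : s₀ ^ 2 = y⁻¹ * (y * s₀ ^ 2) := by group
        rw [h5]
        exact H.mul_mem (H.inv_mem hy) h
      · apply hs
        have h5 : s₀ = (y * s₀ ^ 1)⁻¹ * (y * s₀ ^ 2) := by group
        rw [h5]
        exact H.mul_mem (H.inv_mem h1) h2
    obtain ⟨ha1, hb1⟩ := huniq H₁ hs1 hsq1
    obtain ⟨ha2, hb2⟩ := huniq H₂ hs2 hsq2
    by_cases hy1 : y ∈ H₁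
    · obtain ⟨h11, h12⟩ := ha1 hy1
      by_cases hy2 : y * s₀ ^ 1 ∈ H₂
      · exact key y 2 h12 (hb2 hy2)
      · exact key y 1 h11 hy2
    · by_cases hy2 : y ∈ H₂
      · obtain ⟨h21, h22⟩ := ha2 hy2
        by_cases hy3 : y * s₀ ^ 1 ∈ H₁
        · exact key y 2 (hb1 hy3) h22
        · exact key y 1 hy3 h21
      · exact key y 0 (by simpa using hy1) (by simpa using hy2)

end Cfsg.Agent.Helper18.MCQ
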