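import Mathlib
import Cfsg.Agent.Lib.MCQ.MCQDefs
import Cfsg.Agent.Lib.MC.MCK
import Cfsg.Agent.Lib.MC.MCUnif

/-!
# PIECE MCQ-ITER (small): iterated commutators with a uniform element go down exactly one step at a time

Induction on `m`.  `m = 0`: `iterComm a s 0 = a`.  Step: `iterComm a s (m+1) = ⁅iterComm a s m, s⁆`; it lies in
`K Y (j+m+1)` by `comm_mem_succ` (or `iterComm_mem`), and not in `K Y (j+m+2)` by `uniform_comm hn hY hs` applied at
`i = j + m` (needs `2 ≤ i` and `i + 2 ≤ n`, which is `hm` for `m + 1`).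
(Compare `mc4e_adIter_not_mem` in `Lib/MC4/MC4Shallow.lean`, which is the same for `adIter`.)
-/

set_option autoImplicit false

namespace Cfsg.Agent.Helper18.MCQ

open Cfsg.Agent.Helper21.MC
open scoped commutatorElement

variable {Y : Type*} [Group Y] [Finite Y] {p : ℕ} [Fact p.Prime] {n : ℕ}

theorem iter_chain (hn : 4 ≤ n) (hY : IsMC p n Y) {s : Y} (hs : IsUniform n Y s) {j : ℕ} (hj : 2 ≤ j)
    {a : Y} (ha : a ∈ K Y j) (ha' : a ∉ K Y (j + 1)) (m : ℕ) (hm : j + m + 1 ≤ n) :
    iterComm a s m ∈ K Y (j + m) ∧ iterComm a s m ∉ K Y (j + m + 1) := by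
  induction m with
  | zero => exact ⟨ha, ha'⟩
  | succ m ih =>
    obtain ⟨h1, h2⟩ := ih (by omega)
    have h3 : iterComm a s (m + 1) = ⁅iterComm a s m, s⁆ := rfl
    rw [h3]
    refine ⟨?_, ?_⟩
    · have h := comm_mem_succ (i := j + m) (by omega) h1 s
      rw [show j + (m + 1) = j + m + 1 by omega]
      exact h
    · have h := uniform_comm hn hY hs (i := j + m) (by omega) (by omega) h1 h2
      rw [show j + (m + 1) + 1 = j + m + 2 by omega]
      exact h

end Cfsg.Agent.Helper18.MCQ
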