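import Mathlib
import Cfsg.Agent.Lib.MCQ.MCQDefs
import Cfsg.Agent.Lib.MC.MCK
import Cfsg.Agent.Lib.MC.MCCard

/-!
# PIECE MCQ-TOP2 (small): two elements generating `K (n-2)`

`e ∈ K (n-2) \ K (n-1)`, `1 ≠ e' ∈ K (n-1)`.  `|K (n-1)| = p` and `|K (n-2)| = p ^ 2` (`card_K`).  `closure {e'}` is a nontrivial
subgroup of `K (n-1)`, so equals it; `closure {e, e'}` lies in `K (n-2)` and properly contains `K (n-1)`, so its order is a
multiple of `p` bigger than `p` dividing `p ^ 2`: it is `K (n-2)`.  Hence `K (n-2) = closure {e, e'} ≤ T`.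
-/

set_option autoImplicit false

namespace Cfsg.Agent.Helper18.MCQ

open Cfsg.Agent.Helper21.MC

variable {Y : Type*} [Group Y] [Finite Y] {p : ℕ} [Fact p.Prime] {n : ℕ}

theorem K_le_of_two_mem (hn : 4 ≤ n) (hY : IsMC p n Y) (T : Subgroup Y) {e e' : Y}
    (he : e ∈ K Y (n - 2)) (he2 : e ∉ K Y (n - 1)) (he' : e' ∈ K Y (n - 1)) (he'1 : e' ≠ 1)
    (heT : e ∈ T) (he'T : e' ∈ T) : K Y (n - 2) ≤ T := by
  have hp : p.Prime := Fact.out
  have hn3 : 3 ≤ n := by omega
  have hc1 : Nat.card (K Y (n - 1)) = p := by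
    have := card_K hn3 hY (n - 1) (by omega) (by omega)
    rwa [show n - (n - 1) = 1 by omega, pow_one] at this
  have hc2 : Nat.card (K Y (n - 2)) = p ^ 2 := by
    have := card_K hn3 hY (n - 2) (by omega) (by omega)
    rwa [show n - (n - 2) = 2 by omega] at this
  have hanti : K Y (n - 1) ≤ K Y (n - 2) := K_antitone (by omega)
  set C : Subgroup Y := Subgroup.closure {e, e'} with hC
  have heC : e ∈ C := Subgroup.subset_closure (by simp)
  have he'C : e' ∈ C := Subgroup.subset_closure (by simp)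
  have hCK : C ≤ K Y (n - 2) := by
    rw [hC, Subgroup.closure_le]
    rintro g (rfl | rfl)
    · exact he
    · exact hanti he'
  have hCT : C ≤ T := by
    rw [hC, Subgroup.closure_le]
    rintro g (rfl | rfl)
    · exact heT
    · exact he'T
  have hK1C : K Y (n - 1) ≤ C := by
    have : Fact (Nat.card (K Y (n - 1))).Prime := ⟨hc1 ▸ hp⟩
    have h := Subgroup.eq_bot_or_eq_top_of_prime_card
      ((Subgroup.zpowers e').subgroupOf (K Y (n - 1)))
    rcases h with h | h
    · exfalso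
      have hmem : (⟨e', he'⟩ : K Y (n - 1)) ∈ (Subgroup.zpowers e').subgroupOf (K Y (n - 1)) :=
        Subgroup.mem_subgroupOf.2 (Subgroup.mem_zpowers e')
      rw [h, Subgroup.mem_bot] at hmem
      exact he'1 (congrArg Subtype.val hmem)
    · rw [Subgroup.subgroupOf_eq_top] at h
      exact h.trans ((Subgroup.zpowers_le).2 he'C)
  have hd1 : p ∣ Nat.card C := by
    have := Subgroup.card_dvd_of_le hK1C
    rwa [hc1] at this
  have hd2 : Nat.card C ∣ p ^ 2 := by
    have := Subgroup.card_dvd_of_le hCK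
    rwa [hc2] at this
  have hne : Nat.card C ≠ p := by
    intro h
    have heq : K Y (n - 1) = C := Subgroup.eq_of_le_of_card_ge hK1C (by rw [hc1, h])
    exact he2 (heq ▸ heC)
  obtain ⟨k, hk, hkc⟩ := (Nat.dvd_prime_pow hp).1 hd2
  have hk2 : k = 2 := by
    interval_cases k
    · rw [hkc, pow_zero] at hd1
      exact absurd (Nat.dvd_one.1 hd1) hp.one_lt.ne'
    · exact absurd (by rw [hkc, pow_one]) hne
    · rfl
  have hCeq : C = K Y (n - 2) := Subgroup.eq_of_le_of_card_ge hCK (by rw [hc2, hkc, hk2])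
  rw [← hCeq]
  exact hCT

end Cfsg.Agent.Helper18.MCQ
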