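import Mathlib
import Cfsg.Agent.Lib.MCQ.MCQDefs
import Cfsg.Agent.Lib.MCQ.MCQIter
import Cfsg.Agent.Lib.MCQ.MCQTop2
import Cfsg.Agent.Lib.MC.MCCard

/-!
# PIECE MCQ-LOW (small-medium; uses MCQ-ITER, MCQ-TOP2 by statement)

`T` is closed under `x ↦ ⁅x, s⁆` (`s` uniform) and contains `a ∈ K 2 \ K (n-1)`: then `K (n-2) ≤ T`.

Let `j` be the largest index with `a ∈ K Y j`; `2 ≤ j ≤ n - 2` (`a ∈ K 2`, `a ∉ K (n-1)`, `K_antitone`), `a ∉ K (j+1)`.  By `iter_chain` with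
`m = n - 2 - j`, `e := iterComm a s m ∈ K (n-2) \ K (n-1)`; with `m + 1`, `e' := iterComm a s (m+1) ∈ K (n-1) \ K n`, and `K n = ⊥`
(`K_eq_bot`), so `e' ≠ 1`.  Both lie in `T` (induction on `m` from `haT`, `hcl`).  Conclude by `K_le_of_two_mem`.
-/

set_option autoImplicit false

namespace Cfsg.Agent.Helper18.MCQ

open Cfsg.Agent.Helper21.MC
open scoped commutatorElement

variable {Y : Type*} [Group Y] [Finite Y] {p : ℕ} [Fact p.Prime] {n : ℕ}

theorem K_le_of_comm_closed (hn : 4 ≤ n) (hY : IsMC p n Y) {s : Y} (hs : IsUniform n Y s)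
    (T : Subgroup Y) (hcl : ∀ x ∈ T, ⁅x, s⁆ ∈ T) {a : Y} (haT : a ∈ T) (ha2 : a ∈ K Y 2)
    (ha : a ∉ K Y (n - 1)) : K Y (n - 2) ≤ T := by
  classical
  have hT : ∀ m : ℕ, iterComm a s m ∈ T := by
    intro m
    induction m with
    | zero => exact haT
    | succ m ih => exact hcl _ ih
  obtain ⟨j, hj⟩ : ∃ j, j = Nat.findGreatest (fun i => a ∈ K Y i) (n - 2) := ⟨_, rfl⟩
  have hj2 : 2 ≤ j := by
    rw [hj]
    exact Nat.le_findGreatest (by omega) ha2
  have hjn : j ≤ n - 2 := by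
    rw [hj]
    exact Nat.findGreatest_le _
  have haj : a ∈ K Y j := by
    rw [hj]
    exact Nat.findGreatest_spec (P := fun i => a ∈ K Y i) (m := 2) (by omega) ha2
  have haj' : a ∉ K Y (j + 1) := by
    by_cases hlt : j + 1 ≤ n - 2
    · exact Nat.findGreatest_is_greatest (P := fun i => a ∈ K Y i) (by rw [← hj]; omega) hlt
    · have e : j + 1 = n - 1 := by omega
      rw [e]
      exact ha
  obtain ⟨m, hm⟩ : ∃ m, m = n - 2 - j := ⟨_, rfl⟩
  have h1 := iter_chain hn hY hs hj2 haj haj' m (by omega)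
  have h2 := iter_chain hn hY hs hj2 haj haj' (m + 1) (by omega)
  have e1 : j + m = n - 2 := by omega
  have e2 : j + m + 1 = n - 1 := by omega
  have e3 : j + (m + 1) = n - 1 := by omega
  have e4 : j + (m + 1) + 1 = n := by omega
  rw [e2, e1] at h1
  rw [e4, e3] at h2
  have hne : iterComm a s (m + 1) ≠ 1 := by
    intro h
    apply h2.2
    rw [h]
    exact Subgroup.one_mem _
  exact K_le_of_two_mem hn hY T h1.1 h1.2 h2.1 hne (hT m) (hT (m + 1))

end Cfsg.Agent.Helper18.MCQ
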