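import Mathlib
import Cfsg.Agent.Lib.MCQ.MCQDefs
import Cfsg.Agent.Lib.MCQ.MCQLow
import Cfsg.Agent.Lib.MC.MCFrat
import Cfsg.Agent.Lib.MC.MCCard
import Cfsg.Agent.Lib.MC4.MC4ECNM

/-!
# PIECE MCQ-NORMSUB (medium; uses MCQ-LOW by statement): normal subgroups of a group of maximal class

`M ⊴ Y`: either `K (n-2) ≤ M` or `M ≤ K (n-1)`.

Proof.  Suppose `m ∈ M`, `m ∉ K (n-1)`.  Fix a uniform `s₀` (`exists_not_mem_two H₁ H₂ hU.idx₁ hU.idx₂` + `hU.unif`).  For every uniform `s`, `M` is closed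
under `x ↦ ⁅x, s⁆ = x⁻¹ * (s⁻¹ * x * s)` (normality).
(a) `m ∈ K 2`: `K_le_of_comm_closed` with `a = m`, `s = s₀`.
(b) `m ∉ K 2`, `m` not uniform: `m ∈ H_j` for some `j` (`hU.unif`), `s₀ ∉ H_j`; `a := ⁅s₀, m⁆ ∈ M` (normal), `a ∈ K 2` (`comm_mem_succ'`), `a ∉ K 3`
(`mc4e_comm_not_mem hn3 hY H_j hU.le_j hU.idx_j` with `x = m`, `s = s₀`); as `K (n-1) ≤ K 3` (`n ≥ 4`), `a ∉ K (n-1)`; apply `K_le_of_comm_closed` with `a`, `s₀`.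
(c) `m` uniform: pick `x ∈ H₁`, `x ∉ K 2` (exists: `K 2 < H₁` since the indices are `p ^ 2` and `p`); `m ∉ H₁`; `a := ⁅m, x⁆ ∈ M`, `a ∈ K 2`, `a ∉ K 3`
(`mc4e_comm_not_mem` with `x = x`, `s = m`); apply `K_le_of_comm_closed` with `a` and `s = m`.
-/

set_option autoImplicit false

namespace Cfsg.Agent.Helper18.MCQ

open Cfsg.Agent.Helper21.MC
open scoped commutatorElement

variable {Y : Type*} [Group Y] [Finite Y] {p : ℕ} [Fact p.Prime] {n : ℕ}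

theorem normal_dichotomy (hn : 4 ≤ n) (hY : IsMC p n Y) {H₁ H₂ : Subgroup Y}
    (hU : UnifHyp p n Y H₁ H₂) (M : Subgroup Y) [M.Normal] :
    K Y (n - 2) ≤ M ∨ M ≤ K Y (n - 1) := by
  have hp : p.Prime := Fact.out
  have hn3 : 3 ≤ n := by omega
  by_cases hM : M ≤ K Y (n - 1)
  · exact Or.inr hM
  left
  obtain ⟨m, hmM, hmn1⟩ := SetLike.not_le_iff_exists.mp hM
  obtain ⟨s₀, hs1, hs2⟩ := exists_not_mem_two H₁ H₂ hU.idx₁ hU.idx₂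
  have hs₀ : IsUniform n Y s₀ := (hU.unif s₀).mpr ⟨hs1, hs2⟩
  -- closure of `M` under commutators
  have hcl : ∀ s : Y, ∀ x ∈ M, ⁅x, s⁆ ∈ M := by
    intro s x hx
    have h1 : s * x⁻¹ * s⁻¹ ∈ M := ‹M.Normal›.conj_mem x⁻¹ (M.inv_mem hx) s
    have h2 : ⁅x, s⁆ = x * (s * x⁻¹ * s⁻¹) := by
      rw [commutatorElement_def]; group
    rw [h2]
    exact M.mul_mem hx h1
  have hcl' : ∀ s : Y, ∀ x ∈ M, ⁅s, x⁆ ∈ M := by
    intro s x hx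
    have h1 : s * x * s⁻¹ ∈ M := ‹M.Normal›.conj_mem x hx s
    have h2 : ⁅s, x⁆ = (s * x * s⁻¹) * x⁻¹ := by
      rw [commutatorElement_def]
    rw [h2]
    exact M.mul_mem h1 (M.inv_mem hx)
  have htop : ∀ g : Y, g ∈ K Y 1 := by
    intro g
    rw [K_one]
    exact Subgroup.mem_top g
  have hK3 : K Y (n - 1) ≤ K Y 3 := K_antitone (by omega)
  by_cases hm2 : m ∈ K Y 2
  · -- (a)
    exact K_le_of_comm_closed hn hY hs₀ M (hcl s₀) hmM hm2 hmn1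
  by_cases hmu : IsUniform n Y m
  · -- (c)
    have hmH1 : m ∉ H₁ := ((hU.unif m).mp hmu).1
    obtain ⟨x, hxH, hxK⟩ : ∃ x, x ∈ H₁ ∧ x ∉ K Y 2 := by
      by_contra hc
      push Not at hc
      have hle : H₁ ≤ K Y 2 := fun x hx => hc x hx
      have heq : H₁ = K Y 2 := le_antisymm hle hU.le₁
      have h1 := hU.idx₁
      rw [heq, index_K_two hn3 hY] at h1
      have h2 : 2 ≤ p := hp.two_le
      nlinarith
    have ha2 : ⁅m, x⁆ ∈ K Y 2 := comm_mem_succ (le_refl 1) (htop m) x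
    have ha3 : ⁅m, x⁆ ∉ K Y 3 := mc4e_comm_not_mem hn3 hY H₁ hU.le₁ hU.idx₁ hxH hxK hmH1
    have han : ⁅m, x⁆ ∉ K Y (n - 1) := fun h => ha3 (hK3 h)
    exact K_le_of_comm_closed hn hY hmu M (hcl m) (hcl x m hmM) ha2 han
  · -- (b)
    have hor : m ∈ H₁ ∨ m ∈ H₂ := by
      by_contra hc
      push Not at hc
      exact hmu ((hU.unif m).mpr hc)
    rcases hor with hmH | hmH
    · have ha2 : ⁅s₀, m⁆ ∈ K Y 2 := comm_mem_succ' (le_refl 1) (htop m) s₀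
      have ha3 : ⁅s₀, m⁆ ∉ K Y 3 := mc4e_comm_not_mem hn3 hY H₁ hU.le₁ hU.idx₁ hmH hm2 hs1
      have han : ⁅s₀, m⁆ ∉ K Y (n - 1) := fun h => ha3 (hK3 h)
      exact K_le_of_comm_closed hn hY hs₀ M (hcl s₀) (hcl' s₀ m hmM) ha2 han
    · have ha2 : ⁅s₀, m⁆ ∈ K Y 2 := comm_mem_succ' (le_refl 1) (htop m) s₀
      have ha3 : ⁅s₀, m⁆ ∉ K Y 3 := mc4e_comm_not_mem hn3 hY H₂ hU.le₂ hU.idx₂ hmH hm2 hs2
      have han : ⁅s₀, m⁆ ∉ K Y (n - 1) := fun h => ha3 (hK3 h)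
      exact K_le_of_comm_closed hn hY hs₀ M (hcl s₀) (hcl' s₀ m hmM) ha2 han

end Cfsg.Agent.Helper18.MCQ
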