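import Mathlib
import Cfsg.Prelude.Def_Solvable
import Cfsg.Agent.Lib.MCQ.MCQDefs
import Cfsg.Agent.Lib.Helper22.PPrimeCore

/-!
# PIECE MCQ-SYL (small): two Sylow facts

* `inf_ne_bot_of_normal`: if `O_{p'}(G) = 1` and `N ⊴ G` is nontrivial then `N ∩ P ≠ 1`.  If `p ∤ |N|` then `|N|` is coprime to `p`,
  so `N ≤ pPrimeCore p G = ⊥` (`Cfsg.Agent.Helper22.le_pPrimeCore p N hN hcop`).  Otherwise Cauchy gives `x ∈ N` of order `p`;
  `zpowers x` is a `p`-subgroup, so lies in a Sylow `Q`, and `Q = g • P` for some `g` (`MulAction.exists_smul_eq G`); then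
  `1 ≠ g⁻¹ * x * g ∈ N ⊓ P` (`N` normal).
* `eq_top_of_sylow_le`: `P ≤ N ⊴ G ⟹ N = ⊤`: `N.index ∣ P.index` (`Subgroup.index_dvd_of_le`), and `P.index` is coprime to `p`
  (`Sylow.not_dvd_index` / `P.card_coprime_index`), so `hres N _ _` applies.
-/

set_option autoImplicit false

namespace Cfsg.Agent.Helper18.MCQ

variable {G : Type*} [Group G] [Finite G] {p : ℕ} [Fact p.Prime]

theorem inf_ne_bot_of_normal (P : Sylow p G) (hcore : Cfsg.pPrimeCore p G = ⊥) (N : Subgroup G)
    [N.Normal] (hN : N ≠ ⊥) : N ⊓ (P : Subgroup G) ≠ ⊥ := by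
  have hp : p.Prime := Fact.out
  by_cases hdvd : p ∣ Nat.card N
  · obtain ⟨x, hx⟩ := exists_prime_orderOf_dvd_card' p hdvd
    have hxo : orderOf (x : G) = p := by rw [Subgroup.orderOf_coe]; exact hx
    have hx1 : (x : G) ≠ 1 := by
      intro h
      rw [h, orderOf_one] at hxo
      exact hp.one_lt.ne hxo
    have hpg : IsPGroup p (Subgroup.zpowers (x : G)) := by
      apply IsPGroup.of_card (n := 1)
      rw [Nat.card_zpowers, hxo, pow_one]
    obtain ⟨Q, hQ⟩ := hpg.exists_le_sylow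
    obtain ⟨g, hg⟩ := MulAction.exists_smul_eq G Q P
    have hxQ : (x : G) ∈ (Q : Subgroup G) := hQ (Subgroup.mem_zpowers _)
    have hmem : g * (x : G) * g⁻¹ ∈ (P : Subgroup G) := by
      rw [← hg, Sylow.coe_subgroup_smul]
      have := Subgroup.smul_mem_pointwise_smul (x : G) (MulAut.conj g) (Q : Subgroup G) hxQ
      simpa [MulAut.smul_def] using this
    have hmemN : g * (x : G) * g⁻¹ ∈ N := ‹N.Normal›.conj_mem _ x.2 g
    intro hbot
    have h1 : g * (x : G) * g⁻¹ ∈ (⊥ : Subgroup G) := by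
      rw [← hbot]; exact ⟨hmemN, hmem⟩
    rw [Subgroup.mem_bot] at h1
    apply hx1
    have : (x : G) = g⁻¹ * (g * (x : G) * g⁻¹) * g := by group
    rw [this, h1]; group
  · exfalso
    apply hN
    have hcop : (Nat.card N).Coprime p := ((Nat.Prime.coprime_iff_not_dvd hp).2 hdvd).symm
    have hle := Cfsg.Agent.Helper22.le_pPrimeCore p N inferInstance hcop
    rw [hcore] at hle
    exact le_bot_iff.mp hle

theorem eq_top_of_sylow_le (P : Sylow p G)
    (hres : ∀ N : Subgroup G, N.Normal → (N.index).Coprime p → N = ⊤) (N : Subgroup G) [N.Normal]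
    (h : (P : Subgroup G) ≤ N) : N = ⊤ := by
  have hp : p.Prime := Fact.out
  apply hres N inferInstance
  have hdvd : N.index ∣ (P : Subgroup G).index := Subgroup.index_dvd_of_le h
  have hnd : ¬ p ∣ (P : Subgroup G).index := P.not_dvd_index
  have hnd' : ¬ p ∣ N.index := fun h' => hnd (h'.trans hdvd)
  exact ((Nat.Prime.coprime_iff_not_dvd hp).2 hnd').symm

end Cfsg.Agent.Helper18.MCQ
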