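import Mathlib
import Cfsg.Prelude.Def_Solvable
import Cfsg.Agent.Lib.Helper1.Tate
import Cfsg.Agent.Lib.Helper22.PResidual
import Cfsg.Agent.Lib.Helper22.PPrimeCore

/-!
# S3865 (helper18): Tate's theorem with trivial `p'`-core

A normal subgroup `N` with `N ∩ P ≤ Φ(P)` is a `p`-group when `O_{p'}(G) = 1`, hence `N ≤ P`
(the argument of helper1's `not_le_frattini_of_normal`).
-/

set_option autoImplicit false

namespace Cfsg.Agent.Helper18.MCQ

open Cfsg.Agent.Helper1

variable {G : Type*} [Group G] [Finite G] {p : ℕ} [hp : Fact p.Prime]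

theorem le_sylow_of_inf_le_frattini (P : Sylow p G) (hcore : Cfsg.pPrimeCore p G = ⊥)
    (N : Subgroup G) [hNn : N.Normal]
    (h : N ⊓ (P : Subgroup G) ≤ (frattini ↥(P : Subgroup G)).map (P : Subgroup G).subtype) :
    N ≤ (P : Subgroup G) := by
  have h1 := tate_pResidual P N h
  haveI hMn : ((Cfsg.pResidual p N).map N.subtype).Normal := map_pResidual_normal N
  have hcard : Nat.card ((Cfsg.pResidual p N).map N.subtype) = Nat.card (Cfsg.pResidual p N) :=
    Subgroup.card_map_of_injective (Subgroup.subtype_injective N)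
  have hcop : (Nat.card ((Cfsg.pResidual p N).map N.subtype)).Coprime p := by
    rw [hcard]
    exact ((Nat.Prime.coprime_iff_not_dvd hp.out).mpr h1).symm
  have h2 := Cfsg.Agent.Helper22.le_pPrimeCore p _ hMn hcop
  rw [hcore, le_bot_iff, Subgroup.map_eq_bot_iff_of_injective _ (Subgroup.subtype_injective N)]
    at h2
  have hNp : IsPGroup p N := by
    intro n
    obtain ⟨a, ha⟩ := Cfsg.Agent.Helper22.exists_pow_mem_pResidual (p := p) n
    rw [h2, Subgroup.mem_bot] at ha
    exact ⟨a, ha⟩
  exact hNp.le_sylow_of_normal P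

end Cfsg.Agent.Helper18.MCQ
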