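import Mathlib
import Cfsg.Agent.Lib.MCQ.MCQDefs

/-!
# PIECE MCQ-CEN (medium): an element whose centralizer has `p`-part `≠ p ^ 2` is conjugate to one with big centralizer in `P`

* `p_sq_le_card_centralizer`: in a `p`-group `Y` of order `≥ p ^ 2` every centralizer `C_Y(s)` has order `≥ p ^ 2`: it contains the centre
  (nontrivial, `IsPGroup.center_nontrivial`/`bot_lt_center`) and `s`; if `s` is central then `C_Y(s) = ⊤`; otherwise `center Y < C_Y(s)`, both of `p`-power order.
* `exists_conj_big_centralizer`: put `C := centralizer {s}`, `e := (Nat.card C).factorization p`.  `P ⊓ C` is a `p`-subgroup of `C`, so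
  `|P ⊓ C| ∣ p ^ e` (`IsPGroup.card_eq_or_dvd`/Sylow: every `p`-subgroup of `C` has order dividing `p ^ e`); with `hlow`, `2 ≤ e`, so `3 ≤ e` by `hne`.
  Let `T` be a Sylow `p`-subgroup of `C` (as a subgroup of `G`, order `p ^ e`: `Sylow.card_eq_multiplicity`).  `s ∈ T`: `zpowers s` is a normal
  `p`-subgroup of `C` (`s` is central in `C`, and `s ∈ P`), so lies in every Sylow subgroup of `C` (`IsPGroup.le_sylow_of_normal`?? or conjugate a
  Sylow containing `s` by an element of `C`, which fixes `s`).  `T` is a `p`-subgroup of `G`, so `g⁻¹ T g ≤ P` for some `g` (`IsPGroup.exists_le_sylow` +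
  `MulAction.exists_smul_eq`).  Then `g⁻¹ * s * g ∈ P` and `g⁻¹ T g ≤ P ⊓ centralizer {g⁻¹ * s * g}`, of order `p ^ e ≥ p ^ 3`.
-/

set_option autoImplicit false

namespace Cfsg.Agent.Helper18.MCQ

variable {G : Type*} [Group G] [Finite G] {p : ℕ} [Fact p.Prime]

theorem p_sq_le_card_centralizer {Y : Type*} [Group Y] [Finite Y] (hY : IsPGroup p Y)
    (hc : p ^ 2 ≤ Nat.card Y) (s : Y) : p ^ 2 ≤ Nat.card (Subgroup.centralizer ({s} : Set Y)) := by
  have hp : p.Prime := Fact.out
  have hnt : Nontrivial Y := by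
    rw [← Finite.one_lt_card_iff_nontrivial]
    calc 1 < p ^ 2 := Nat.one_lt_pow (by norm_num) hp.one_lt
      _ ≤ Nat.card Y := hc
  obtain ⟨k, hk⟩ := (hY.to_subgroup (Subgroup.centralizer ({s} : Set Y))).exists_card_eq
  rw [hk]
  by_contra hlt
  rw [not_le] at hlt
  have hk1 : k ≤ 1 := by
    by_contra h
    rw [not_le] at h
    exact absurd (Nat.pow_le_pow_right hp.pos h) (not_le.mpr hlt)
  have hZC : Subgroup.center Y ≤ Subgroup.centralizer ({s} : Set Y) :=
    Subgroup.center_le_centralizer _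
  have hZnt : Nontrivial (Subgroup.center Y) := hY.center_nontrivial
  obtain ⟨a, ha⟩ := (hY.to_subgroup (Subgroup.center Y)).exists_card_eq
  have ha1 : 1 ≤ a := by
    rcases Nat.eq_zero_or_pos a with h | h
    · rw [h, pow_zero] at ha
      have := Finite.one_lt_card_iff_nontrivial.mpr hZnt
      omega
    · exact h
  have hle : Nat.card (Subgroup.center Y) ≤ Nat.card (Subgroup.centralizer ({s} : Set Y)) :=
    Subgroup.card_le_of_le hZC
  rw [ha, hk] at hle
  have hak : a ≤ k := (Nat.pow_le_pow_iff_right hp.one_lt).mp hle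
  have hk1' : k = 1 := by omega
  have ha1' : a = 1 := by omega
  have heq : Subgroup.center Y = Subgroup.centralizer ({s} : Set Y) := by
    apply Subgroup.eq_of_le_of_card_ge hZC
    rw [ha, hk, hk1', ha1']
  have hs : s ∈ Subgroup.center Y := by
    rw [heq]
    exact Subgroup.mem_centralizer_singleton_iff.mpr rfl
  have htop : Subgroup.centralizer ({s} : Set Y) = ⊤ := by
    rw [Subgroup.centralizer_eq_top_iff_subset]
    intro x hx
    rw [Set.mem_singleton_iff.mp hx]
    exact hs
  rw [htop, Subgroup.card_top] at hk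
  rw [hk, hk1', pow_one] at hc
  have : p < p ^ 2 := by nlinarith [hp.one_lt]
  omega

theorem exists_conj_big_centralizer (P : Sylow p G) {s : G} (hs : s ∈ (P : Subgroup G))
    (hne : (Nat.card (Subgroup.centralizer ({s} : Set G))).factorization p ≠ 2)
    (hlow : p ^ 2 ≤ Nat.card ↥((P : Subgroup G) ⊓ Subgroup.centralizer ({s} : Set G))) :
    ∃ g : G, g⁻¹ * s * g ∈ (P : Subgroup G) ∧
      p ^ 3 ≤ Nat.card ↥((P : Subgroup G) ⊓ Subgroup.centralizer ({g⁻¹ * s * g} : Set G)) := by
  have hp : p.Prime := Fact.out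
  obtain ⟨C, hC⟩ : ∃ C : Subgroup G, C = Subgroup.centralizer ({s} : Set G) := ⟨_, rfl⟩
  rw [← hC] at hne hlow
  -- `e ≥ 3`
  have hPC : IsPGroup p ↥((P : Subgroup G) ⊓ C) := P.2.to_le inf_le_left
  obtain ⟨m, hm⟩ := hPC.exists_card_eq
  have hdvd : Nat.card ↥((P : Subgroup G) ⊓ C) ∣ Nat.card C := Subgroup.card_dvd_of_le inf_le_right
  have hCpos : Nat.card C ≠ 0 := Nat.card_pos.ne'
  have hme : m ≤ (Nat.card C).factorization p := by
    rw [hm] at hdvd
    exact (hp.pow_dvd_iff_le_factorization hCpos).mp hdvd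
  have h2m : 2 ≤ m := by
    rw [hm] at hlow
    exact (Nat.pow_le_pow_iff_right hp.one_lt).mp hlow
  have h3e : 3 ≤ (Nat.card C).factorization p := by omega
  -- a Sylow subgroup of `C` containing `s`
  have hsC : s ∈ C := by
    rw [hC]
    exact Subgroup.mem_centralizer_singleton_iff.mpr rfl
  obtain ⟨T', hT'⟩ := (P.2.comap_subtype (K := C)).exists_le_sylow
  have hsT' : (⟨s, hsC⟩ : C) ∈ (T' : Subgroup C) := hT' (by
    rw [Subgroup.mem_comap]
    exact hs)
  have hT'card : Nat.card (T' : Subgroup C) = p ^ (Nat.card C).factorization p :=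
    T'.card_eq_multiplicity
  -- its image in `G`
  obtain ⟨T, hT⟩ : ∃ T : Subgroup G, T = (T' : Subgroup C).map C.subtype := ⟨_, rfl⟩
  have hTp : IsPGroup p T := by
    rw [hT]
    exact T'.2.map _
  have hTcard : Nat.card T = p ^ (Nat.card C).factorization p := by
    rw [hT, Subgroup.card_map_of_injective C.subtype_injective, hT'card]
  have hTC : T ≤ C := by
    rw [hT]
    exact Subgroup.map_subtype_le _
  have hsT : s ∈ T := by
    rw [hT]
    exact ⟨⟨s, hsC⟩, hsT', rfl⟩
  obtain ⟨Q, hQ⟩ := hTp.exists_le_sylow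
  obtain ⟨h, hh⟩ := MulAction.exists_smul_eq G Q P
  have hconj : ∀ t ∈ T, h * t * h⁻¹ ∈ (P : Subgroup G) := by
    intro t ht
    rw [← hh, Sylow.coe_subgroup_smul]
    exact Subgroup.smul_mem_pointwise_smul t (MulAut.conj h) _ (hQ ht)
  refine ⟨h⁻¹, ?_, ?_⟩
  · rw [inv_inv]
    exact hconj s hsT
  · rw [inv_inv]
    have hle : T.map (MulAut.conj h).toMonoidHom ≤
        (P : Subgroup G) ⊓ Subgroup.centralizer ({h * s * h⁻¹} : Set G) := by
      rintro _ ⟨t, ht, rfl⟩
      refine ⟨hconj t ht, ?_⟩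
      show h * t * h⁻¹ ∈ Subgroup.centralizer ({h * s * h⁻¹} : Set G)
      rw [Subgroup.mem_centralizer_singleton_iff]
      have hts : t * s = s * t := by
        have := hTC ht
        rw [hC, Subgroup.mem_centralizer_singleton_iff] at this
        exact this
      show h * t * h⁻¹ * (h * s * h⁻¹) = h * s * h⁻¹ * (h * t * h⁻¹)
      have e1 : h * t * h⁻¹ * (h * s * h⁻¹) = h * (t * s) * h⁻¹ := by group
      have e2 : h * s * h⁻¹ * (h * t * h⁻¹) = h * (s * t) * h⁻¹ := by group
      rw [e1, e2, hts]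
    calc p ^ 3 ≤ p ^ (Nat.card C).factorization p := Nat.pow_le_pow_right hp.pos h3e
      _ = Nat.card T := hTcard.symm
      _ = Nat.card (T.map (MulAut.conj h).toMonoidHom) :=
        (Subgroup.card_map_of_injective (MulAut.conj h).injective).symm
      _ ≤ _ := Subgroup.card_le_of_le hle

end Cfsg.Agent.Helper18.MCQ
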