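import Mathlib
import Cfsg.Agent.Lib.MCQ.MCQDefs
import Cfsg.Agent.Lib.MCQ.MCQLow
import Cfsg.Agent.Lib.MC.MCFrat
import Cfsg.Agent.Lib.MC.MCCard
import Cfsg.Agent.Lib.MC.MCUnif

/-!
# PIECE MCQ-STEP (medium; uses MCQ-LOW by statement): the local step

`T < Y` contains the uniform element `s` and an element `s'` with `|C_T(s')| ≤ p ^ 2` (in the application `s'` is the image
of `s` under an automorphism of `T`).  Then `s'` is uniform or `s' ∈ K (n-2)`.

Proof.  Suppose `s'` is not uniform and `s' ∉ K (n-2)`.  By `hU.unif`, `s' ∈ H_j` for `j = 1` or `2`, while `s ∉ H_j`.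
(1) `s' ∈ K 2`: otherwise `closure {s'} ⊔ K 2` lies strictly between `K 2` and... precisely `K 2 < closure {s'} ⊔ K 2 ≤ H_j`, and
`(K 2).relIndex H_j = p` (`index_K_two`, `hU.idx_j`, `hU.le_j`), so `H_j = closure {s'} ⊔ K 2 ≤ T ⊔ K 2`; also `s ∈ T ⊔ K 2`, `s ∉ H_j`, so
`H_j < T ⊔ K 2`, whose index properly divides `p`: `T ⊔ K 2 = ⊤`, so `T = ⊤` by `sup_K_two_eq_top`, contradicting `hT`.
(2) `s' ∉ K (n-1)` (as `K (n-1) ≤ K (n-2)`), and `T` is closed under `x ↦ ⁅x, s⁆` (`s ∈ T`): `K (n-2) ≤ T` by `K_le_of_comm_closed`.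
(3) `s' ∈ K 2` commutes with `K (n-2)`: `⁅K 2, K (n-2)⁆ ≤ K n = ⊥` (`K_comm_le`, `K_eq_bot`).  So `B := closure {s'} ⊔ K (n-2) ≤
T ⊓ centralizer {s'}`; `K (n-2) < B` (it contains `s'`), `|K (n-2)| = p ^ 2` (`card_K`), and `|B|` is a power of `p` (`mccard_exists_exp`), so
`|B| ≥ p ^ 3 > p ^ 2`, contradicting `hc`.
-/

set_option autoImplicit false

namespace Cfsg.Agent.Helper18.MCQ

open Cfsg.Agent.Helper21.MC
open scoped commutatorElement

variable {Y : Type*} [Group Y] [Finite Y] {p : ℕ} [Fact p.Prime] {n : ℕ}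

theorem mcqstep_eq_of_lt (hY : IsMC p n Y) {A B C : Subgroup Y} (hAB : A < B) (hBC : B ≤ C)
    (hcard : Nat.card C = p * Nat.card A) : B = C := by
  have hp : p.Prime := Fact.out
  obtain ⟨a, ha⟩ := mccard_exists_exp hY A
  obtain ⟨b, hb⟩ := mccard_exists_exp hY B
  obtain ⟨c, hc⟩ := mccard_exists_exp hY C
  have h1 : Nat.card A < Nat.card B := mccard_card_lt hAB
  have h2 : Nat.card B ≤ Nat.card C := Subgroup.card_le_of_le hBC
  rw [ha, hb] at h1
  rw [hb, hc] at h2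
  rw [ha, hc, ← pow_succ'] at hcard
  have e1 : c = a + 1 := Nat.pow_right_injective hp.two_le hcard
  have e2 : a < b := (Nat.pow_lt_pow_iff_right hp.one_lt).1 h1
  have e3 : b ≤ c := (Nat.pow_le_pow_iff_right hp.one_lt).1 h2
  have e4 : b = c := by omega
  apply Subgroup.eq_of_le_of_card_ge hBC
  rw [hb, hc, e4]

theorem mcqstep_mem_K_two (hn : 4 ≤ n) (hY : IsMC p n Y) {H : Subgroup Y} (hidx : H.index = p)
    (hle : K Y 2 ≤ H) (T : Subgroup Y) (hT : T ≠ ⊤) {s s' : Y} (hsT : s ∈ T) (hs'T : s' ∈ T)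
    (hs'H : s' ∈ H) (hsH : s ∉ H) : s' ∈ K Y 2 := by
  have hp : p.Prime := Fact.out
  have hn3 : 3 ≤ n := by omega
  by_contra hs'2
  have hcardH : Nat.card H * p = p ^ n := by
    have := H.card_mul_index
    rw [hidx, hY.1] at this; exact this
  have hcardK : Nat.card (K Y 2) = p ^ (n - 2) := mccard_card_K_two hn3 hY
  have hHK : Nat.card H = p * Nat.card (K Y 2) := by
    rw [hcardK]
    have h2 : p ^ n = p * p ^ (n - 2) * p := by
      rw [← pow_succ', ← pow_succ]; congr 1; omega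
    rw [h2] at hcardH
    exact Nat.eq_of_mul_eq_mul_right hp.pos hcardH
  have hL1 : K Y 2 < Subgroup.closure {s'} ⊔ K Y 2 := by
    refine lt_of_le_of_ne le_sup_right ?_
    intro h
    apply hs'2
    rw [h]
    exact (le_sup_left : Subgroup.closure {s'} ≤ _) (Subgroup.subset_closure rfl)
  have hL2 : Subgroup.closure {s'} ⊔ K Y 2 ≤ H :=
    sup_le ((Subgroup.closure_le _).2 (by simpa using hs'H)) hle
  have hLH := mcqstep_eq_of_lt hY hL1 hL2 hHK
  have hM1 : H < T ⊔ K Y 2 := by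
    refine lt_of_le_of_ne ?_ ?_
    · rw [← hLH]; exact sup_le_sup_right ((Subgroup.closure_le _).2 (by simpa using hs'T)) _
    · intro h; apply hsH; rw [h]; exact (le_sup_left : T ≤ _) hsT
  have hM2 := mcqstep_eq_of_lt hY hM1 le_top (by rw [Subgroup.card_top, hY.1, ← hcardH, mul_comm])
  exact hT (sup_K_two_eq_top hn3 hY T hM2)

theorem step (hn : 4 ≤ n) (hY : IsMC p n Y) {H₁ H₂ : Subgroup Y} (hU : UnifHyp p n Y H₁ H₂)
    (T : Subgroup Y) (hT : T ≠ ⊤) {s s' : Y} (hs : IsUniform n Y s) (hsT : s ∈ T) (hs'T : s' ∈ T)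
    (hc : Nat.card ↥(T ⊓ Subgroup.centralizer ({s'} : Set Y)) ≤ p ^ 2) :
    IsUniform n Y s' ∨ s' ∈ K Y (n - 2) := by
  have hp : p.Prime := Fact.out
  have hn3 : 3 ≤ n := by omega
  by_contra hcon
  rw [not_or] at hcon
  obtain ⟨hnu, hnk⟩ := hcon
  have hsU := (hU.unif s).1 hs
  have hs'2 : s' ∈ K Y 2 := by
    by_cases h1 : s' ∈ H₁
    · exact mcqstep_mem_K_two hn hY hU.idx₁ hU.le₁ T hT hsT hs'T h1 hsU.1
    · by_cases h2 : s' ∈ H₂
      · exact mcqstep_mem_K_two hn hY hU.idx₂ hU.le₂ T hT hsT hs'T h2 hsU.2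
      · exact absurd ((hU.unif s').2 ⟨h1, h2⟩) hnu
  have hs'n1 : s' ∉ K Y (n - 1) := fun h => hnk (K_antitone (by omega : n - 2 ≤ n - 1) h)
  have hcl : ∀ x ∈ T, ⁅x, s⁆ ∈ T := by
    intro x hx
    rw [commutatorElement_def]
    exact T.mul_mem (T.mul_mem (T.mul_mem hx hsT) (T.inv_mem hx)) (T.inv_mem hsT)
  have hKT : K Y (n - 2) ≤ T := K_le_of_comm_closed hn hY hs T hcl hs'T hs'2 hs'n1
  have hKC : K Y (n - 2) ≤ Subgroup.centralizer ({s'} : Set Y) := by
    intro b hb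
    rw [Subgroup.mem_centralizer_iff]
    intro g hg
    rw [Set.mem_singleton_iff] at hg
    rw [hg]
    have h1 : ⁅s', b⁆ ∈ K Y (2 + (n - 2)) :=
      K_comm_le 2 (n - 2) (by omega) (by omega) (Subgroup.commutator_mem_commutator hs'2 hb)
    rw [K_eq_bot hn3 hY _ (by omega), Subgroup.mem_bot] at h1
    exact (commutatorElement_eq_one_iff_mul_comm.1 h1)
  have hB1 : K Y (n - 2) < Subgroup.closure {s'} ⊔ K Y (n - 2) := by
    refine lt_of_le_of_ne le_sup_right ?_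
    intro h
    apply hnk
    rw [h]
    exact (le_sup_left : Subgroup.closure {s'} ≤ _) (Subgroup.subset_closure rfl)
  have hB2 : Subgroup.closure {s'} ⊔ K Y (n - 2) ≤ T ⊓ Subgroup.centralizer ({s'} : Set Y) := by
    apply sup_le
    · rw [Subgroup.closure_le]
      intro g hg
      rw [Set.mem_singleton_iff] at hg
      rw [hg]
      have hmem : s' ∈ Subgroup.centralizer ({s'} : Set Y) := by
        rw [Subgroup.mem_centralizer_iff]
        intro h hh
        rw [Set.mem_singleton_iff] at hh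
        rw [hh]
      exact Subgroup.mem_inf.2 ⟨hs'T, hmem⟩
    · exact le_inf hKT hKC
  have hc1 := mccard_card_lt hB1
  have hc2 := Subgroup.card_le_of_le hB2
  have hc3 : Nat.card (K Y (n - 2)) = p ^ 2 := by
    rw [card_K hn3 hY (n - 2) (by omega) (by omega)]; congr 1; omega
  omega

end Cfsg.Agent.Helper18.MCQ
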