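import Mathlib
import Cfsg.Agent.Lib.MCQ.MCQDefs
import Cfsg.Agent.Lib.MCQ.MCQStep
import Cfsg.Agent.Lib.MCQ.MCQAutU
import Cfsg.Agent.Lib.MC.MCUnif

/-!
# PIECE MCQ-CHSTEP (helper18): one step of the Alperin chain

`T ≤ P`, `x ∈ N_G(T)`, `s ∈ T` uniform in `Y := ↥P`.  Then `s' := x⁻¹ * s * x ∈ T ≤ P` is uniform in `Y` or lies in `K Y (n-2)`.
-/

set_option autoImplicit false

namespace Cfsg.Agent.Helper18.MCQ

open Cfsg.Agent.Helper21.MC

variable {G : Type*} [Group G]

/-- conjugation by `x⁻¹` preserves a subgroup normalized by `x` -/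
theorem mcqchstep_conj_mem {T : Subgroup G} {x : G} (hx : x ∈ Subgroup.normalizer (T : Set G))
    {a : G} (ha : a ∈ T) : x⁻¹ * a * x ∈ T := by
  have hx' : x⁻¹ ∈ Subgroup.normalizer (T : Set G) := Subgroup.inv_mem _ hx
  have := (Subgroup.mem_normalizer_iff.mp hx' a).mp ha
  simpa using this

theorem mcqchstep_conj_mem' {T : Subgroup G} {x : G} (hx : x ∈ Subgroup.normalizer (T : Set G))
    {a : G} (ha : a ∈ T) : x * a * x⁻¹ ∈ T :=
  (Subgroup.mem_normalizer_iff.mp hx a).mp ha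

/-- the automorphism of `H` induced by `x ∈ N_G(H)`: `a ↦ x⁻¹ * a * x` -/
def mcqchstep_equiv (H : Subgroup G) (x : G) (hx : x ∈ Subgroup.normalizer (H : Set G)) :
    ↥H ≃* ↥H where
  toFun a := ⟨x⁻¹ * (a : G) * x, mcqchstep_conj_mem hx a.2⟩
  invFun a := ⟨x * (a : G) * x⁻¹, mcqchstep_conj_mem' hx a.2⟩
  left_inv a := by
    apply Subtype.ext
    simp only
    group
  right_inv a := by
    apply Subtype.ext
    simp only
    group
  map_mul' a b := by
    apply Subtype.ext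
    simp only [Subgroup.coe_mul]
    group

variable [Finite G] {p : ℕ} [Fact p.Prime] {n : ℕ}

theorem chain_step (P : Sylow p G) (hn : 4 ≤ n) (hY : IsMC p n ↥(P : Subgroup G))
    {H₁ H₂ : Subgroup ↥(P : Subgroup G)} (hU : UnifHyp p n ↥(P : Subgroup G) H₁ H₂)
    (T : Subgroup G) (hTP : T ≤ (P : Subgroup G)) (x : G)
    (hx : x ∈ Subgroup.normalizer (T : Set G)) (sY : ↥(P : Subgroup G)) (hsT : (sY : G) ∈ T)
    (hsu : IsUniform n ↥(P : Subgroup G) sY) :
    ∃ y : ↥(P : Subgroup G), (y : G) = x⁻¹ * (sY : G) * x ∧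
      (IsUniform n ↥(P : Subgroup G) y ∨ y ∈ K ↥(P : Subgroup G) (n - 2)) := by
  have hs'T : x⁻¹ * (sY : G) * x ∈ T := mcqchstep_conj_mem hx hsT
  refine ⟨⟨x⁻¹ * (sY : G) * x, hTP hs'T⟩, rfl, ?_⟩
  by_cases hTeq : T = (P : Subgroup G)
  · -- `x` normalizes `P`
    left
    have hxP : x ∈ Subgroup.normalizer ((P : Subgroup G) : Set G) := by
      rw [← hTeq]; exact hx
    have h1 := (isUniform_mulEquiv (n := n) (mcqchstep_equiv (P : Subgroup G) x hxP) sY).mpr hsu
    exact h1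
  · -- `T < P`
    set T' : Subgroup ↥(P : Subgroup G) := T.subgroupOf (P : Subgroup G) with hT'
    have hT'top : T' ≠ ⊤ := by
      intro h
      rw [hT', Subgroup.subgroupOf_eq_top] at h
      exact hTeq (le_antisymm hTP h)
    have hsT' : sY ∈ T' := Subgroup.mem_subgroupOf.mpr hsT
    have hyT' : (⟨x⁻¹ * (sY : G) * x, hTP hs'T⟩ : ↥(P : Subgroup G)) ∈ T' :=
      Subgroup.mem_subgroupOf.mpr hs'T
    refine step hn hY hU T' hT'top hsu hsT' hyT' ?_
    -- the cardinality bound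
    have hcs := card_centralizer_le hn hY hsu
    refine le_trans ?_ hcs
    -- injection `a ↦ x * a * x⁻¹`
    let f : ↥(T' ⊓ Subgroup.centralizer
        ({(⟨x⁻¹ * (sY : G) * x, hTP hs'T⟩ : ↥(P : Subgroup G))} : Set ↥(P : Subgroup G))) →
        ↥(Subgroup.centralizer ({sY} : Set ↥(P : Subgroup G))) := fun a =>
      ⟨⟨x * ((a : ↥(P : Subgroup G)) : G) * x⁻¹,
        hTP (mcqchstep_conj_mem' hx (Subgroup.mem_subgroupOf.mp a.2.1))⟩, by
        rw [Subgroup.mem_centralizer_iff]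
        intro h hh
        rw [Set.mem_singleton_iff] at hh
        subst hh
        have hc := Subgroup.mem_centralizer_iff.mp a.2.2
          (⟨x⁻¹ * (h : G) * x, hTP hs'T⟩ : ↥(P : Subgroup G)) (Set.mem_singleton _)
        have hc' : x⁻¹ * (h : G) * x * ((a : ↥(P : Subgroup G)) : G) =
            ((a : ↥(P : Subgroup G)) : G) * (x⁻¹ * (h : G) * x) := congrArg Subtype.val hc
        apply Subtype.ext
        simp only [Subgroup.coe_mul]
        calc (h : G) * (x * ((a : ↥(P : Subgroup G)) : G) * x⁻¹)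
            = x * (x⁻¹ * (h : G) * x * ((a : ↥(P : Subgroup G)) : G)) * x⁻¹ := by group
          _ = x * (((a : ↥(P : Subgroup G)) : G) * (x⁻¹ * (h : G) * x)) * x⁻¹ := by rw [hc']
          _ = x * ((a : ↥(P : Subgroup G)) : G) * x⁻¹ * (h : G) := by group⟩
    have hf : Function.Injective f := by
      intro a b hab
      have h1 : x * ((a : ↥(P : Subgroup G)) : G) * x⁻¹ = x * ((b : ↥(P : Subgroup G)) : G) * x⁻¹ :=
        congrArg (fun z => ((z : ↥(P : Subgroup G)) : G)) (congrArg Subtype.val hab)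
      apply Subtype.ext
      apply Subtype.ext
      have h2 : ((a : ↥(P : Subgroup G)) : G) = x⁻¹ * (x * ((a : ↥(P : Subgroup G)) : G) * x⁻¹) * x := by
        group
      rw [h2, h1]
      group
    exact Nat.card_le_card_of_injective f hf

end Cfsg.Agent.Helper18.MCQ
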