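import Mathlib
import Cfsg.Agent.Lib.MCQ.MCQDefs
import Cfsg.Agent.Lib.MCQ.MCQChStep
import Cfsg.Agent.Lib.Helper10.Alperin

/-!
# PIECE MCQ-CHAIN (small-medium; uses MCQ-CHSTEP by statement): uniform elements outside `N` stay uniform along an Alperin chain

`N ⊴ G` contains `K (n-2)` of `P`.  Induction on `hc : Chain (fnFam P) A g` (generalizing `sY`):
* `nil`: `g = 1`, `y := sY` (`1⁻¹ * s * 1 = s` by `simp`).
* `cons A T x g' hT hx hAT hrest ih`: `A = {s}` so `s ∈ T`; `hT.1 : T ≤ P`.  `chain_step` gives `y₁` with `(y₁ : G) = x⁻¹ * s * x` uniform or in `K (n-2)`;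
  the second case is impossible: then `x⁻¹ * s * x ∈ N` by `hKN` (`Subgroup.mem_map_of_mem`), so `s ∈ N` by normality.  `rcs x {s} = {x⁻¹ * s * x}`
  (`rcs` is the image under `a ↦ x⁻¹ * a * x`, `Set.image_singleton`), `x⁻¹ * s * x ∉ N` (normality), so `ih y₁` gives `y` with
  `(y : G) = g'⁻¹ * (x⁻¹ * s * x) * g' = (x * g')⁻¹ * s * (x * g')` (`group`).
-/

set_option autoImplicit false

namespace Cfsg.Agent.Helper18.MCQ

open Cfsg.Agent.Helper21.MC Cfsg.Agent.Helper10

variable {G : Type*} [Group G] [Finite G] {p : ℕ} [Fact p.Prime] {n : ℕ}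

theorem chain_uniform (P : Sylow p G) (hn : 4 ≤ n) (hY : IsMC p n ↥(P : Subgroup G))
    {H₁ H₂ : Subgroup ↥(P : Subgroup G)} (hU : UnifHyp p n ↥(P : Subgroup G) H₁ H₂)
    (N : Subgroup G) [N.Normal]
    (hKN : (K ↥(P : Subgroup G) (n - 2)).map (P : Subgroup G).subtype ≤ N)
    {A : Set G} {g : G} (hc : Chain (fnFam P) A g) (sY : ↥(P : Subgroup G))
    (hA : A = {(sY : G)}) (hsu : IsUniform n ↥(P : Subgroup G) sY) (hsN : (sY : G) ∉ N) :
    ∃ y : ↥(P : Subgroup G), (y : G) = g⁻¹ * (sY : G) * g ∧ IsUniform n ↥(P : Subgroup G) y := by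
  induction hc generalizing sY with
  | nil A => exact ⟨sY, by simp, hsu⟩
  | cons A T x g' hT hx hAT hrest ih =>
    have hsT : (sY : G) ∈ T := by
      apply hAT
      rw [hA]
      exact Set.mem_singleton _
    obtain ⟨y₁, hy₁, hy₁u⟩ := chain_step P hn hY hU T hT.1 x hx sY hsT hsu
    have hnotN : x⁻¹ * (sY : G) * x ∉ N := by
      intro h
      apply hsN
      have h2 := (inferInstance : N.Normal).conj_mem _ h x
      have e : x * (x⁻¹ * (sY : G) * x) * x⁻¹ = (sY : G) := by group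
      rwa [e] at h2
    have hu₁ : IsUniform n ↥(P : Subgroup G) y₁ := by
      rcases hy₁u with h | h
      · exact h
      · exfalso
        apply hnotN
        rw [← hy₁]
        exact hKN (Subgroup.mem_map_of_mem _ h)
    have hrcs : rcs x A = {(y₁ : G)} := by
      rw [hA, hy₁]
      unfold rcs
      rw [Set.image_singleton]
    obtain ⟨y, hy, hyu⟩ := ih y₁ hrcs hu₁ (by rw [hy₁]; exact hnotN)
    refine ⟨y, ?_, hyu⟩
    rw [hy, hy₁]
    group

end Cfsg.Agent.Helper18.MCQ
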