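import Mathlib
import Cfsg.Agent.Lib.MCQ.MCQDefs
import Cfsg.Agent.Lib.Helper10.Alperin

/-!
# PIECE MCQ-FN (small-medium; done by helper15): every subgroup of `P` has a fully normalized conjugate in `P`

This is the hypothesis `hF` of `Cfsg.Agent.Helper10.alperin_chain` for the family `fnFam P`.
Given `T ≤ P`: `T` is a normal `p`-subgroup of `N := normalizer T`; let `R` be a Sylow `p`-subgroup of `N` (as a subgroup of `G`, `R ≤ N`, of `p'`-index
in `N`); `R` is a `p`-subgroup of `G`, so `rcg g R ≤ P` for some `g` (Sylow; `rcg g R = g⁻¹ R g`, see `Lib/Helper10/Alperin.lean`: `conj_into_relSylow`,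
`rcg_normalizer`, `rcg_mono`, `card_rcg`, `mem_rcg`).  Put `U := rcg g T`.  `T ≤ R` (normal `p`-subgroup of `N` lies in every Sylow of `N`), so `U ≤ rcg g R ≤ P`.
`normalizer U = rcg g N` (`rcg_normalizer`), and `rcg g R ≤ P ⊓ normalizer U` has `p'`-index in `normalizer U` (conjugate of `R ≤ N`), hence so does the
bigger subgroup `P ⊓ normalizer U` (`Subgroup.relIndex_dvd_of_le_left`).
-/

set_option autoImplicit false

namespace Cfsg.Agent.Helper18.MCQ

open Cfsg.Agent.Helper10

variable {G : Type*} [Group G] [Finite G] {p : ℕ} [Fact p.Prime]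

theorem fnFam_spec (P : Sylow p G) : ∀ T : Subgroup G, T ≤ (P : Subgroup G) →
    ∃ U ∈ fnFam P, U ≤ (P : Subgroup G) ∧ (∃ g : G, rcg g T = U) ∧
      ¬ p ∣ ((P : Subgroup G) ⊓ Subgroup.normalizer (U : Set G)).relIndex
        (Subgroup.normalizer (U : Set G)) := by
  intro T hTP
  have hTp : IsPGroup p T := P.isPGroup'.to_le hTP
  -- a Sylow `p`-subgroup `R` of `N_G(T)` containing `T`
  have hT' : IsPGroup p (T.subgroupOf (Subgroup.normalizer (T : Set G))) := hTp.comap_subtype
  obtain ⟨R₀, hR₀⟩ := hT'.exists_le_sylow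
  have hRN : (R₀ : Subgroup ↥(Subgroup.normalizer (T : Set G))).map
      (Subgroup.normalizer (T : Set G)).subtype ≤ Subgroup.normalizer (T : Set G) :=
    Subgroup.map_subtype_le _
  have hTR : T ≤ (R₀ : Subgroup ↥(Subgroup.normalizer (T : Set G))).map
      (Subgroup.normalizer (T : Set G)).subtype := by
    intro t ht
    exact ⟨⟨t, Subgroup.le_normalizer ht⟩, hR₀ (Subgroup.mem_subgroupOf.2 ht), rfl⟩
  have hRp : IsPGroup p ((R₀ : Subgroup ↥(Subgroup.normalizer (T : Set G))).map
      (Subgroup.normalizer (T : Set G)).subtype) := R₀.isPGroup'.map _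
  have hRidx : ¬ p ∣ ((R₀ : Subgroup ↥(Subgroup.normalizer (T : Set G))).map
      (Subgroup.normalizer (T : Set G)).subtype).relIndex (Subgroup.normalizer (T : Set G)) := by
    have h1 : ((R₀ : Subgroup ↥(Subgroup.normalizer (T : Set G))).map
        (Subgroup.normalizer (T : Set G)).subtype).subgroupOf (Subgroup.normalizer (T : Set G)) =
        (R₀ : Subgroup ↥(Subgroup.normalizer (T : Set G))) :=
      Subgroup.comap_map_eq_self_of_injective (Subgroup.subtype_injective _) _
    unfold Subgroup.relIndex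
    rw [h1]
    exact R₀.not_dvd_index
  -- conjugate `R` into `P`
  obtain ⟨c, -, hc⟩ := conj_into_relSylow (⊤ : Subgroup G) (P : Subgroup G) _ le_top P.isPGroup'
    (by rw [Subgroup.relIndex_top_right]; exact P.not_dvd_index) le_top hRp
  have hUP : rcg c T ≤ (P : Subgroup G) := (rcg_mono c hTR).trans hc
  have hNU : Subgroup.normalizer ((rcg c T : Subgroup G) : Set G) =
      rcg c (Subgroup.normalizer (T : Set G)) := (rcg_normalizer c T).symm
  have hidxU : ¬ p ∣ ((P : Subgroup G) ⊓ Subgroup.normalizer ((rcg c T : Subgroup G) : Set G)).relIndex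
      (Subgroup.normalizer ((rcg c T : Subgroup G) : Set G)) := by
    have hle : rcg c ((R₀ : Subgroup ↥(Subgroup.normalizer (T : Set G))).map
        (Subgroup.normalizer (T : Set G)).subtype) ≤
        (P : Subgroup G) ⊓ Subgroup.normalizer ((rcg c T : Subgroup G) : Set G) := by
      refine le_inf hc ?_
      rw [hNU]
      exact rcg_mono c hRN
    have hdvd := Subgroup.relIndex_dvd_of_le_left
      (Subgroup.normalizer ((rcg c T : Subgroup G) : Set G)) hle
    intro hp
    apply hRidx
    have h2 := dvd_trans hp hdvd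
    rw [hNU] at h2
    unfold rcg at h2
    rwa [Subgroup.relIndex_map_map_of_injective _ _ (MulAut.conj c⁻¹).injective] at h2
  exact ⟨rcg c T, ⟨hUP, hidxU⟩, hUP, ⟨c, rfl⟩, hidxU⟩

end Cfsg.Agent.Helper18.MCQ
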