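import Mathlib
import Cfsg.Agent.Lib.MCQ.MCQDefs
import Cfsg.Agent.Lib.MCQ.MCQCen
import Cfsg.Agent.Lib.MCQ.MCQFn
import Cfsg.Agent.Lib.MCQ.MCQChain
import Cfsg.Agent.Lib.MC.MCUnif
import Cfsg.Agent.Lib.MC.MCCard

/-!
# PIECE MCQ-UNIFN (medium; uses MCQ-CEN, MCQ-FN, MCQ-CHAIN by statement): under `NoGood`, every uniform element lies in `N`

`s := (sY : G)`.  `|C_Y(sY)| ≤ p ^ 2` (`card_centralizer_le hn hY hs`) and `≥ p ^ 2` (`p_sq_le_card_centralizer (isPGroup_of_isMC hY)`, `|Y| = p ^ n`),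
and `|P ⊓ C_G(s)| = |C_Y(sY)|` (`P.subtype` maps `centralizer {sY}` bijectively onto `P ⊓ centralizer {s}`).  `hNG s sY.2` and
`exists_conj_big_centralizer` give `g` with `s' := g⁻¹ * s * g ∈ P` and `p ^ 3 ≤ |P ⊓ C_G(s')| = |C_Y(⟨s', _⟩)|`, so `⟨s', _⟩` is NOT uniform
(`card_centralizer_le`).  Suppose `s ∉ N`.  `alperin_chain (P : Subgroup G) P.2 (fnFam P) (fnFam_spec P) {s} g _ _` gives `Chain (fnFam P) {s} g`
(`rcs g {s} = {g⁻¹ * s * g}`), and `chain_uniform` gives a uniform `y` with `(y : G) = s'`, so `y = ⟨s', _⟩` (`Subtype.ext`): contradiction.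
-/

set_option autoImplicit false

namespace Cfsg.Agent.Helper18.MCQ

open Cfsg.Agent.Helper21.MC Cfsg.Agent.Helper10

variable {G : Type*} [Group G] [Finite G] {p : ℕ} [Fact p.Prime] {n : ℕ}

/-- `|P ⊓ C_G(t)| = |C_P(t)|` for `t ∈ P` -/
theorem mcqunifn_card {G : Type*} [Group G] (P : Subgroup G) (t : ↥P) :
    Nat.card ↥(P ⊓ Subgroup.centralizer ({(t : G)} : Set G)) =
      Nat.card ↥(Subgroup.centralizer ({t} : Set ↥P)) := by
  have h : (Subgroup.centralizer ({t} : Set ↥P)).map P.subtype =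
      P ⊓ Subgroup.centralizer ({(t : G)} : Set G) := by
    ext y
    rw [Subgroup.mem_map, Subgroup.mem_inf]
    constructor
    · rintro ⟨a, ha, rfl⟩
      rw [Subgroup.mem_centralizer_iff] at ha
      refine ⟨a.2, ?_⟩
      rw [Subgroup.mem_centralizer_iff]
      rintro h rfl
      have h1 := ha t rfl
      exact congrArg Subtype.val h1
    · rintro ⟨hyP, hyC⟩
      rw [Subgroup.mem_centralizer_iff] at hyC
      refine ⟨⟨y, hyP⟩, ?_, rfl⟩
      rw [Subgroup.mem_centralizer_iff]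
      rintro h rfl
      exact Subtype.ext (hyC _ rfl)
  rw [← h]
  exact (Nat.card_congr
    (Subgroup.equivMapOfInjective _ _ P.subtype_injective).toEquiv).symm

theorem uniform_mem_normal (P : Sylow p G) (hn : 4 ≤ n) (hY : IsMC p n ↥(P : Subgroup G))
    {H₁ H₂ : Subgroup ↥(P : Subgroup G)} (hU : UnifHyp p n ↥(P : Subgroup G) H₁ H₂)
    (hNG : NoGood p P) (N : Subgroup G) [N.Normal]
    (hKN : (K ↥(P : Subgroup G) (n - 2)).map (P : Subgroup G).subtype ≤ N)
    (sY : ↥(P : Subgroup G)) (hs : IsUniform n ↥(P : Subgroup G) sY) : (sY : G) ∈ N := by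
  have hp : p.Prime := Fact.out
  have hle : Nat.card (Subgroup.centralizer ({sY} : Set ↥(P : Subgroup G))) ≤ p ^ 2 :=
    card_centralizer_le hn hY hs
  have hcY : p ^ 2 ≤ Nat.card ↥(P : Subgroup G) := by
    rw [hY.1]
    exact Nat.pow_le_pow_right hp.pos (by omega)
  have hge : p ^ 2 ≤ Nat.card (Subgroup.centralizer ({sY} : Set ↥(P : Subgroup G))) :=
    p_sq_le_card_centralizer (isPGroup_of_isMC hY) hcY sY
  have hlow : p ^ 2 ≤ Nat.card ↥((P : Subgroup G) ⊓ Subgroup.centralizer ({(sY : G)} : Set G)) := by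
    rw [mcqunifn_card]
    exact hge
  obtain ⟨g, hs'P, hbig⟩ := exists_conj_big_centralizer P sY.2 (hNG _ sY.2) hlow
  -- the conjugate is not uniform
  have hnot : ¬ IsUniform n ↥(P : Subgroup G) ⟨g⁻¹ * (sY : G) * g, hs'P⟩ := by
    intro hu
    have h1 := card_centralizer_le hn hY hu
    have h2 := mcqunifn_card (P : Subgroup G) ⟨g⁻¹ * (sY : G) * g, hs'P⟩
    have h3 : p ^ 3 ≤ p ^ 2 := by
      calc p ^ 3 ≤ Nat.card ↥((P : Subgroup G) ⊓
            Subgroup.centralizer ({g⁻¹ * (sY : G) * g} : Set G)) := hbig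
        _ = _ := h2
        _ ≤ p ^ 2 := h1
    have h4 : p ^ 2 < p ^ 3 := Nat.pow_lt_pow_right hp.one_lt (by norm_num)
    omega
  by_contra hsN
  have hA : ({(sY : G)} : Set G) ⊆ ((P : Subgroup G) : Set G) := by
    rw [Set.singleton_subset_iff]
    exact sY.2
  have hAg : rcs g ({(sY : G)} : Set G) ⊆ ((P : Subgroup G) : Set G) := by
    intro y hy
    rw [mem_rcs, Set.mem_singleton_iff] at hy
    have e : y = g⁻¹ * (sY : G) * g := by rw [← hy]; group
    rw [e]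
    exact hs'P
  have hc : Chain (fnFam P) ({(sY : G)} : Set G) g :=
    alperin_chain (P : Subgroup G) P.2 (fnFam P) (fnFam_spec P) _ g hA hAg
  obtain ⟨y, hy, hyu⟩ := chain_uniform P hn hY hU N hKN hc sY rfl hs hsN
  have e : y = ⟨g⁻¹ * (sY : G) * g, hs'P⟩ := Subtype.ext hy
  rw [e] at hyu
  exact hnot hyu

end Cfsg.Agent.Helper18.MCQ
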