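import Mathlib
import Cfsg.Prelude.Def_Solvable
import Cfsg.Agent.Lib.MCQ.MCQDefs
import Cfsg.Agent.Lib.MCQ.MCQUnifN
import Cfsg.Agent.Lib.MCQ.MCQGenU
import Cfsg.Agent.Lib.MCQ.MCQNormSub
import Cfsg.Agent.Lib.MCQ.MCQTateP
import Cfsg.Agent.Lib.MCQ.MCQSyl
import Cfsg.Agent.Lib.MCQ.MCQCent
import Cfsg.Agent.Lib.MC.MCCard
import Cfsg.Agent.Lib.MC.MCFrat

/-!
# PIECE MCQ-BIG (medium; assembly for `n ≥ 4`; uses MCQ-UNIFN, MCQ-GENU, MCQ-NORMSUB, MCQ-SYL, MCQ-CENT by statement, `le_sylow_of_inf_le_frattini` proved)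

Let `N ⊴ G`, `M := N.subgroupOf P ⊴ Y := ↥P`.  `normal_dichotomy hn hY hU M`:
* `K (n-2) ≤ M`: then `(K (n-2)).map P.subtype ≤ N`; `uniform_mem_normal` puts every uniform element in `N`, i.e. in `M`; `eq_top_of_uniform_mem` gives
  `M = ⊤`, so `P ≤ N` (`Subgroup.subgroupOf_eq_top`), and `N = ⊤` by `eq_top_of_sylow_le`.
* `M ≤ K (n-1)`: `K (n-1) ≤ K 2 = commutator Y ≤ frattini Y` (`K_antitone`, `K_two_eq_commutator`, `Cfsg.Agent.Helper23.commutator_le_frattini_pgroup p hP`
  as in `Lib/MC/MCFrat.lean`), so `N ⊓ P ≤ (frattini Y).map P.subtype`; `le_sylow_of_inf_le_frattini` gives `N ≤ P`; then `|N| = |M| ≤ |K (n-1)| = p`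
  (`card_K`, `Subgroup.card_le_of_le`), and `N ≤ center G` by `le_center_of_card_le`.
-/

set_option autoImplicit false

namespace Cfsg.Agent.Helper18.MCQ

open Cfsg.Agent.Helper21.MC

variable {G : Type*} [Group G] [Finite G] {p : ℕ} [Fact p.Prime] {n : ℕ}

theorem normDich_big (P : Sylow p G) (hn : 4 ≤ n) (hY : IsMC p n ↥(P : Subgroup G))
    {H₁ H₂ : Subgroup ↥(P : Subgroup G)} (hU : UnifHyp p n ↥(P : Subgroup G) H₁ H₂)
    (hcore : Cfsg.pPrimeCore p G = ⊥)
    (hres : ∀ N : Subgroup G, N.Normal → (N.index).Coprime p → N = ⊤)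
    (hNG : NoGood p P) : NormDich p P := by
  have hp : p.Prime := Fact.out
  intro N hN
  have := hN
  have hn3 : 3 ≤ n := by omega
  have hMn : (N.subgroupOf (P : Subgroup G)).Normal := inferInstance
  rcases normal_dichotomy hn hY hU (N.subgroupOf (P : Subgroup G)) with h | h
  · left
    have hKN : (K ↥(P : Subgroup G) (n - 2)).map (P : Subgroup G).subtype ≤ N := by
      rintro _ ⟨a, ha, rfl⟩
      exact Subgroup.mem_subgroupOf.mp (h ha)
    have hM : N.subgroupOf (P : Subgroup G) = ⊤ := by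
      apply eq_top_of_uniform_mem hn hY hU
      intro s hs
      rw [Subgroup.mem_subgroupOf]
      exact uniform_mem_normal P hn hY hU hNG N hKN s hs
    have hPN : (P : Subgroup G) ≤ N := Subgroup.subgroupOf_eq_top.mp hM
    exact eq_top_of_sylow_le P hres N hPN
  · right
    have hPp : IsPGroup p ↥(P : Subgroup G) := isPGroup_of_isMC hY
    have h1 : K ↥(P : Subgroup G) (n - 1) ≤ frattini ↥(P : Subgroup G) := by
      have h0 : K ↥(P : Subgroup G) (n - 1) ≤ K ↥(P : Subgroup G) 2 := K_antitone (by omega)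
      refine h0.trans ?_
      rw [K_two_eq_commutator]
      exact Cfsg.Agent.Helper23.commutator_le_frattini_pgroup p hPp
    have h2 : N ⊓ (P : Subgroup G) ≤
        (frattini ↥(P : Subgroup G)).map (P : Subgroup G).subtype := by
      intro x hx
      refine ⟨⟨x, hx.2⟩, h1 (h ?_), rfl⟩
      rw [Subgroup.mem_subgroupOf]
      exact hx.1
    have hNP : N ≤ (P : Subgroup G) := le_sylow_of_inf_le_frattini P hcore N h2
    have hcard : Nat.card N ≤ p := by
      have e1 : Nat.card N = Nat.card (N.subgroupOf (P : Subgroup G)) :=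
        Nat.card_congr (Subgroup.subgroupOfEquivOfLe hNP).symm.toEquiv
      have e2 : Nat.card (N.subgroupOf (P : Subgroup G)) ≤
          Nat.card (K ↥(P : Subgroup G) (n - 1)) := Subgroup.card_le_of_le h
      have e3 : Nat.card (K ↥(P : Subgroup G) (n - 1)) = p ^ (n - (n - 1)) :=
        card_K hn3 hY (n - 1) (by omega) (by omega)
      rw [show n - (n - 1) = 1 by omega, pow_one] at e3
      omega
    exact ⟨hNP, le_center_of_card_le P hres N hNP hcard, hcard⟩

end Cfsg.Agent.Helper18.MCQ
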