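import Mathlib
import Cfsg.Prelude.Def_CaseTheorems
import Cfsg.Agent.Lib.MCQ.MCQDefs

/-!
# PIECE MCQ-QS (medium; pure group theory): the dichotomy for normal subgroups gives quasisimplicity

`hD : NormDich p P`: every `N ⊴ G` is `⊤` or (`N ≤ P`, `N ≤ center G`, `|N| ≤ p`).  `|P| ≥ p ^ 3`, `P` not commutative.
* `center G ≠ ⊤`: else `G` is abelian, `P ⊴ G`, so `P = ⊤` (as `|P| > p`), so `G = P` is commutative, contradicting `hna`.  Hence `|center G| ≤ p`.
* `G` perfect (`Group.IsPerfect G`, check the Mathlib definition: `commutator G = ⊤`): `D := commutator G ⊴ G`; if `D ≠ ⊤` then `D ≤ P`, so `P` contains the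
  commutator subgroup, hence is normal (`g * h * g⁻¹ = ⁅g, h⁆ * h`), hence `P = ⊤`: `G` is a `p`-group of order `≥ p ^ 3`.  It has a subgroup `M` of index `p`
  (`Sylow.exists_subgroup_card_pow_prime`), normal (`Subgroup.normal_of_index_eq_minFac_card`), `M ≠ ⊤`, `|M| = |G| / p ≥ p ^ 2 > p`: contradicts `hD M`.
* `G ⧸ center G` is simple: it is nontrivial (`center G ≠ ⊤`); for `L ⊴ G ⧸ center G`, `N := L.comap (QuotientGroup.mk' _)` is normal in `G` and contains `center G`;
  if `N = ⊤` then `L = ⊤` (surjectivity); otherwise `N ≤ center G`, so `N = center G = ker`, so `L = ⊥` (`Subgroup.map_comap_eq_self_of_surjective`).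
-/

set_option autoImplicit false

namespace Cfsg.Agent.Helper18.MCQ

open scoped commutatorElement

variable {G : Type*} [Group G] [Finite G] {p : ℕ} [Fact p.Prime]

theorem quasisimple_of_normDich (P : Sylow p G) (hP3 : p ^ 3 ≤ Nat.card (P : Subgroup G))
    (hna : ¬ ∀ a b : ↥(P : Subgroup G), a * b = b * a) (hD : NormDich p P) :
    Cfsg.IsQuasisimple G ∧ Nat.card (Subgroup.center G) ≤ p := by
  have hp : p.Prime := Fact.out
  have hp2 : 2 ≤ p := hp.two_le
  have hplt : p < p ^ 3 := by
    calc p = p ^ 1 := (pow_one p).symm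
      _ < p ^ 3 := Nat.pow_lt_pow_right hp.one_lt (by norm_num)
  have hplt2 : p < p ^ 2 := by
    calc p = p ^ 1 := (pow_one p).symm
      _ < p ^ 2 := Nat.pow_lt_pow_right hp.one_lt (by norm_num)
  have hcen : Subgroup.center G ≠ ⊤ := by
    intro h
    apply hna
    intro a b
    apply Subtype.ext
    have hb : (b : G) ∈ Subgroup.center G := by rw [h]; exact Subgroup.mem_top _
    exact Subgroup.mem_center_iff.mp hb (a : G)
  have hcard : Nat.card (Subgroup.center G) ≤ p :=
    ((hD _ inferInstance).resolve_left hcen).2.2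
  have hPtop_of_normal : (P : Subgroup G).Normal → (P : Subgroup G) = ⊤ := by
    intro hN
    rcases hD _ hN with h | h
    · exact h
    · exfalso
      have := h.2.2
      omega
  have hperf : Group.IsPerfect G := by
    constructor
    by_contra hD1
    have hDn : (commutator G).Normal := inferInstance
    have hDP : commutator G ≤ (P : Subgroup G) := ((hD _ hDn).resolve_left hD1).1
    have hPn : (P : Subgroup G).Normal := by
      constructor
      intro h hh g
      have e : g * h * g⁻¹ = ⁅g, h⁆ * h := by
        rw [commutatorElement_def]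
        group
      rw [e]
      exact mul_mem (hDP (Subgroup.commutator_mem_commutator (Subgroup.mem_top g)
        (Subgroup.mem_top h))) hh
    have hPtop := hPtop_of_normal hPn
    obtain ⟨k, hk⟩ := IsPGroup.iff_card.mp P.2
    have hk3 : 3 ≤ k := by
      rw [hk] at hP3
      exact (Nat.pow_le_pow_iff_right hp.one_lt).mp hP3
    have hG : Nat.card G = p ^ k := by
      rw [← hk, hPtop, Subgroup.card_top]
    obtain ⟨M, hM⟩ := Sylow.exists_subgroup_card_pow_prime p (n := k - 1) (G := G)
      (by rw [hG]; exact pow_dvd_pow p (Nat.sub_le k 1))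
    have hidx : M.index = p := by
      have h1 := M.card_mul_index
      rw [hM, hG] at h1
      have h2 : p ^ k = p ^ (k - 1) * p := by
        rw [← pow_succ]
        congr 1
        omega
      rw [h2] at h1
      exact Nat.eq_of_mul_eq_mul_left (pow_pos hp.pos _) h1
    have hMn : M.Normal := by
      apply Subgroup.normal_of_index_eq_minFac_card
      rw [hidx, hG, Nat.Prime.pow_minFac hp (by omega)]
    rcases hD M hMn with h | h
    · have h4 : M.index = 1 := by rw [h]; exact Subgroup.index_top
      omega
    · have h3 := h.2.2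
      rw [hM] at h3
      have h5 : p ^ 2 ≤ p ^ (k - 1) := Nat.pow_le_pow_right hp.pos (by omega)
      omega
  have hnt : Nontrivial (G ⧸ Subgroup.center G) := by
    by_contra hcon
    rw [not_nontrivial_iff_subsingleton] at hcon
    apply hcen
    rw [eq_top_iff]
    intro g _
    have h1 : (QuotientGroup.mk g : G ⧸ Subgroup.center G) = 1 := Subsingleton.elim _ _
    exact (QuotientGroup.eq_one_iff g).mp h1
  have hsimple : IsSimpleGroup (G ⧸ Subgroup.center G) := by
    refine { toNontrivial := hnt, eq_bot_or_eq_top_of_normal := ?_ }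
    intro L hL
    have hNn : (L.comap (QuotientGroup.mk' (Subgroup.center G))).Normal := hL.comap _
    rcases hD _ hNn with h | h
    · right
      rw [eq_top_iff]
      intro q _
      obtain ⟨g, rfl⟩ := QuotientGroup.mk_surjective q
      have hg : g ∈ L.comap (QuotientGroup.mk' (Subgroup.center G)) := by
        rw [h]; exact Subgroup.mem_top _
      exact hg
    · left
      rw [eq_bot_iff]
      intro q hq
      obtain ⟨g, rfl⟩ := QuotientGroup.mk_surjective q
      have hg : g ∈ L.comap (QuotientGroup.mk' (Subgroup.center G)) := hq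
      have hgc : g ∈ Subgroup.center G := h.2.1 hg
      rw [Subgroup.mem_bot]
      exact (QuotientGroup.eq_one_iff g).mpr hgc
  exact ⟨⟨hperf, hsimple⟩, hcard⟩

end Cfsg.Agent.Helper18.MCQ
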