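import Mathlib
import Cfsg.Agent.Lib.MCQ.MCQDefs
import Cfsg.Agent.Lib.MC.MCCard
import Cfsg.Agent.Lib.Helper19.PGroupBasic

/-!
# PIECE MCQ-P3 (small-medium): groups of order `p ^ 3` and class `2`

`IsMC p 3 Y`: `|Y| = p ^ 3`, class `2`.  (1) the centre has order `p`: it is not `⊤` (class `2 ≠ 1`... `Y` is not abelian: otherwise the class would be `≤ 1`),
it is nontrivial (`IsPGroup.center_nontrivial` / `bot_lt_center`), and `Y ⧸ center Y` is not cyclic (`commutative_of_cyclic_center_quotient`),
so its order is not `p` (`isCyclic_of_prime_card`), i.e. `|center Y| ≠ p ^ 2`.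
(2) a nontrivial normal subgroup contains the centre: `M ⊓ center Y ≠ ⊥` for `⊥ ≠ M ⊴ Y`, `Y` a `p`-group (class equation: `M` is a union of
conjugacy classes; the classes outside the centre have size divisible by `p`; or nilpotency: the last nontrivial term of
`M, ⁅M, Y⁆, ⁅⁅M, Y⁆, Y⁆, …` is central), then use (1).
(3) a noncentral element has centralizer of order `p ^ 2` at most.
-/

set_option autoImplicit false

namespace Cfsg.Agent.Helper18.MCQ

open Cfsg.Agent.Helper21.MC

variable {Y : Type*} [Group Y] [Finite Y] {p : ℕ} [Fact p.Prime]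

theorem card_center_of_isMC_three (hY : IsMC p 3 Y) : Nat.card (Subgroup.center Y) = p := by
  have hp : p.Prime := Fact.out
  have hK : Nat.card (K Y 2) = p := by
    have h := card_K (le_refl 3) hY 2 (le_refl 2) (by norm_num)
    simpa using h
  have hKle : K Y 2 ≤ Subgroup.center Y := K_pred_le_center (le_refl 3) hY
  -- `Y` is not commutative
  have hnc : ¬ IsMulCommutative Y := by
    intro hc
    have h1 : commutator Y = ⊥ := (commutator_eq_bot_iff Y).mpr hc
    rw [← K_two_eq_commutator] at h1
    rw [h1, Subgroup.card_bot] at hK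
    exact hp.one_lt.ne hK
  obtain ⟨a, ha⟩ := mccard_exists_exp hY (Subgroup.center Y)
  have hdvd : p ∣ Nat.card (Subgroup.center Y) := by
    rw [← hK]
    exact Subgroup.card_dvd_of_le hKle
  have ha1 : 1 ≤ a := by
    rcases Nat.eq_zero_or_pos a with h0 | h0
    · rw [ha, h0, pow_zero] at hdvd
      exact absurd (Nat.le_of_dvd one_pos hdvd) (not_le.mpr hp.one_lt)
    · exact h0
  have hidx : (Subgroup.center Y).index * Nat.card (Subgroup.center Y) = p ^ 3 := by
    rw [Subgroup.index_mul_card, hY.1]
  have ha3 : a ≤ 3 := by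
    have h2 : p ^ a ∣ p ^ 3 := by
      rw [← ha, ← hidx]
      exact Dvd.intro_left _ rfl
    exact (Nat.pow_dvd_pow_iff_le_right hp.one_lt).mp h2
  rw [ha] at hidx ⊢
  have hidx2 : (Subgroup.center Y).index = p ^ (3 - a) := by
    have h3 : p ^ 3 = p ^ (3 - a) * p ^ a := by
      rw [← pow_add]
      congr 1
      omega
    rw [h3] at hidx
    exact Nat.eq_of_mul_eq_mul_right (pow_pos hp.pos _) hidx
  -- cyclic quotient is impossible
  have hcyc : ¬ IsCyclic (Y ⧸ Subgroup.center Y) := by
    intro hc
    apply hnc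
    exact (QuotientGroup.mk' (Subgroup.center Y)).isMulCommutative_of_isCyclic_of_ker_le_center
      (by rw [QuotientGroup.ker_mk'])
  have ha' : a = 1 ∨ a = 2 ∨ a = 3 := by omega
  rcases ha' with h | h | h
  · rw [h, pow_one]
  · exfalso
    apply hcyc
    rw [h] at hidx2
    have h4 : Nat.card (Y ⧸ Subgroup.center Y) = p := by
      rw [← Subgroup.index_eq_card, hidx2]
      norm_num
    exact isCyclic_of_prime_card h4
  · exfalso
    apply hcyc
    rw [h] at hidx2
    have h4 : Nat.card (Y ⧸ Subgroup.center Y) = 1 := by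
      rw [← Subgroup.index_eq_card, hidx2]
      norm_num
    have : Subsingleton (Y ⧸ Subgroup.center Y) := (Nat.card_eq_one_iff_unique.mp h4).1
    exact isCyclic_of_subsingleton

theorem center_le_of_normal_three (hY : IsMC p 3 Y) (M : Subgroup Y) [M.Normal] (hM : M ≠ ⊥) :
    Subgroup.center Y ≤ M := by
  have hp : p.Prime := Fact.out
  have hP : IsPGroup p Y := isPGroup_of_isMC hY
  have h1 := Cfsg.Agent.Helper19.normal_inf_center_ne_bot hP M hM
  have hc := card_center_of_isMC_three hY
  have h2 : Nat.card ↥(M ⊓ Subgroup.center Y) ∣ p := by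
    rw [← hc]
    exact Subgroup.card_dvd_of_le inf_le_right
  rcases (Nat.dvd_prime hp).mp h2 with h3 | h3
  · exact absurd (Subgroup.card_eq_one.mp h3) h1
  · have h4 : M ⊓ Subgroup.center Y = Subgroup.center Y := by
      apply Subgroup.eq_of_le_of_card_ge inf_le_right
      rw [h3, hc]
    rw [← h4]
    exact inf_le_left

theorem card_centralizer_le_three (hY : IsMC p 3 Y) {s : Y} (hs : s ∉ Subgroup.center Y) :
    Nat.card (Subgroup.centralizer ({s} : Set Y)) ≤ p ^ 2 := by
  have hp : p.Prime := Fact.out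
  obtain ⟨a, ha⟩ := mccard_exists_exp hY (Subgroup.centralizer ({s} : Set Y))
  have hne : Subgroup.centralizer ({s} : Set Y) ≠ ⊤ := by
    intro h
    apply hs
    rw [Subgroup.mem_center_iff]
    intro g
    have hg : g ∈ Subgroup.centralizer ({s} : Set Y) := by rw [h]; exact Subgroup.mem_top g
    exact (Subgroup.mem_centralizer_iff.mp hg s rfl).symm
  have hdvd : p ^ a ∣ p ^ 3 := by
    rw [← ha, ← hY.1]
    exact Subgroup.card_subgroup_dvd_card _
  have ha3 : a ≤ 3 := (Nat.pow_dvd_pow_iff_le_right hp.one_lt).mp hdvd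
  have ha2 : a ≠ 3 := by
    intro h
    apply hne
    apply Subgroup.eq_top_of_card_eq
    rw [ha, h, hY.1]
  rw [ha]
  exact Nat.pow_le_pow_right hp.pos (by omega)

end Cfsg.Agent.Helper18.MCQ
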