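import Mathlib
import Cfsg.Prelude.Def_Solvable
import Cfsg.Agent.Lib.MCQ.MCQDefs
import Cfsg.Agent.Lib.MCQ.MCQThree
import Cfsg.Agent.Lib.MCQ.MCQCen
import Cfsg.Agent.Lib.MCQ.MCQSyl
import Cfsg.Agent.Lib.MC.MCCard

/-!
# PIECE MCQ-N3 (medium; the case `n = 3`; uses MCQ-P3, MCQ-CEN, MCQ-SYL by statement)

`Y := ↥P` has order `p ^ 3` and class `2`.  Let `N ⊴ G`.  If `N = ⊥` the right alternative holds trivially (`⊥ ≤ P`, `⊥ ≤ center G`, `|⊥| = 1 ≤ p`).
Otherwise `N ⊓ P ≠ ⊥` (`inf_ne_bot_of_normal`), so `M := N.subgroupOf P ≠ ⊥` is normal in `Y` and `center Y ≤ M` (`center_le_of_normal_three`).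
Every noncentral `sY : Y` lies in `M`: `|C_Y(sY)| ≤ p ^ 2` (`card_centralizer_le_three`) and `≥ p ^ 2` (`p_sq_le_card_centralizer`); `|P ⊓ C_G(s)| = |C_Y(sY)|`;
`hNG` + `exists_conj_big_centralizer` give `g` with `s' := g⁻¹ * s * g ∈ P` and `|P ⊓ C_G(s')| ≥ p ^ 3 = |P|`, so `⟨s', _⟩` commutes with all of `Y`, i.e. is
central, so `s' ∈ N`, and `s ∈ N` by normality.  A subgroup containing the complement of the proper subgroup `center Y` is `⊤` (for `z` central and
`s` noncentral, `z * s` is noncentral and `z = (z * s) * s⁻¹`).  So `M = ⊤`, `P ≤ N`, `N = ⊤` (`eq_top_of_sylow_le`).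
-/

set_option autoImplicit false

namespace Cfsg.Agent.Helper18.MCQ

open Cfsg.Agent.Helper21.MC

variable {G : Type*} [Group G] [Finite G] {p : ℕ} [Fact p.Prime]

theorem normDich_three (P : Sylow p G) (hY : IsMC p 3 ↥(P : Subgroup G))
    (hcore : Cfsg.pPrimeCore p G = ⊥)
    (hres : ∀ N : Subgroup G, N.Normal → (N.index).Coprime p → N = ⊤)
    (hNG : NoGood p P) : NormDich p P := by
  have hp : p.Prime := Fact.out
  intro N hN
  by_cases hNbot : N = ⊥
  · right
    subst hNbot
    refine ⟨bot_le, bot_le, ?_⟩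
    rw [Subgroup.card_bot]
    exact hp.one_le
  left
  have hinf := inf_ne_bot_of_normal P hcore N hNbot
  have hMn : (N.subgroupOf (P : Subgroup G)).Normal := hN.subgroupOf _
  have hMbot : N.subgroupOf (P : Subgroup G) ≠ ⊥ := by
    intro h
    apply hinf
    rw [eq_bot_iff]
    intro x hx
    have h1 : (⟨x, hx.2⟩ : ↥(P : Subgroup G)) ∈ N.subgroupOf (P : Subgroup G) :=
      Subgroup.mem_subgroupOf.mpr hx.1
    rw [h, Subgroup.mem_bot] at h1
    exact Subgroup.mem_bot.mpr (congrArg Subtype.val h1)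
  have hcen := center_le_of_normal_three hY (N.subgroupOf (P : Subgroup G)) hMbot
  have hPp : IsPGroup p ↥(P : Subgroup G) := P.isPGroup'
  have hcardP : Nat.card ↥(P : Subgroup G) = p ^ 3 := hY.1
  -- every element of `P` lies in `N`
  have hall : ∀ sY : ↥(P : Subgroup G), sY ∈ N.subgroupOf (P : Subgroup G) := by
    intro sY
    by_cases hsY : sY ∈ Subgroup.center ↥(P : Subgroup G)
    · exact hcen hsY
    have h2 : p ^ 2 ≤ Nat.card (Subgroup.centralizer ({sY} : Set ↥(P : Subgroup G))) :=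
      p_sq_le_card_centralizer hPp
        (by rw [hcardP]; exact Nat.pow_le_pow_right hp.pos (by norm_num)) sY
    have hle : Nat.card (Subgroup.centralizer ({sY} : Set ↥(P : Subgroup G))) ≤
        Nat.card ↥((P : Subgroup G) ⊓ Subgroup.centralizer ({(sY : G)} : Set G)) := by
      refine Nat.card_le_card_of_injective
        (fun y => (⟨((y : ↥(P : Subgroup G)) : G), ⟨(y : ↥(P : Subgroup G)).2, ?_⟩⟩ :
          ↥((P : Subgroup G) ⊓ Subgroup.centralizer ({(sY : G)} : Set G)))) ?_
      · show ((y : ↥(P : Subgroup G)) : G) ∈ Subgroup.centralizer ({(sY : G)} : Set G)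
        rw [Subgroup.mem_centralizer_iff]
        intro h hh
        rw [Set.mem_singleton_iff] at hh
        subst hh
        have h3 := (Subgroup.mem_centralizer_iff.mp y.2) sY (Set.mem_singleton _)
        exact congrArg Subtype.val h3
      · intro a b hab
        have h3 := congrArg Subtype.val hab
        exact Subtype.ext (Subtype.ext h3)
    obtain ⟨g, hgP, hg3⟩ := exists_conj_big_centralizer P sY.2 (hNG sY sY.2) (h2.trans hle)
    -- `P ≤ C_G(s')`
    have heq : (P : Subgroup G) ⊓ Subgroup.centralizer ({g⁻¹ * (sY : G) * g} : Set G) =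
        (P : Subgroup G) :=
      Subgroup.eq_of_le_of_card_ge inf_le_left (by rw [hcardP]; exact hg3)
    have hPC : (P : Subgroup G) ≤ Subgroup.centralizer ({g⁻¹ * (sY : G) * g} : Set G) :=
      fun x hx => (heq.symm.le hx).2
    have hcent : (⟨g⁻¹ * (sY : G) * g, hgP⟩ : ↥(P : Subgroup G)) ∈
        Subgroup.center ↥(P : Subgroup G) := by
      rw [Subgroup.mem_center_iff]
      intro y
      apply Subtype.ext
      have h3 := (Subgroup.mem_centralizer_iff.mp (hPC y.2)) _ (Set.mem_singleton _)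
      show (y : G) * (g⁻¹ * (sY : G) * g) = (g⁻¹ * (sY : G) * g) * (y : G)
      exact h3.symm
    have hs'N : g⁻¹ * (sY : G) * g ∈ N := Subgroup.mem_subgroupOf.mp (hcen hcent)
    have h4 := hN.conj_mem _ hs'N g
    have h5 : g * (g⁻¹ * (sY : G) * g) * g⁻¹ = (sY : G) := by group
    rw [h5] at h4
    exact Subgroup.mem_subgroupOf.mpr h4
  have hPN : (P : Subgroup G) ≤ N := fun x hx => Subgroup.mem_subgroupOf.mp (hall ⟨x, hx⟩)
  exact eq_top_of_sylow_le P hres N hPN

end Cfsg.Agent.Helper18.MCQ
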