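import Mathlib
import Cfsg.Agent.Lib.MCQ.MCQDefs
import Cfsg.Agent.Lib.MC.MCTwo
import Cfsg.Agent.Lib.MC.MCUnif
import Cfsg.Agent.Lib.MC4.MC4DeepC

/-!
# PIECE MCQ-UODD (small): the two-subgroup description of the uniform elements, `p` odd

`H₁` from `exists_M` at `i = 2`, `H₂` from `exists_M` at `i = n - 2`; `mc4_all_eq` reduces every `InM Y i`,
`2 ≤ i ≤ n - 3`, to `InM Y 2` (copy the proof of `mc4_exists_uniform` in `Lib/MC4/MC4DeepC.lean`).  The field `two`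
is vacuous (`p ≠ 2`).
-/

set_option autoImplicit false

namespace Cfsg.Agent.Helper18.MCQ

open Cfsg.Agent.Helper21.MC

variable {Y : Type*} [Group Y] [Finite Y] {p : ℕ} [Fact p.Prime] {n : ℕ}

theorem exists_unifHyp_odd (hn : 4 ≤ n) (hY : IsMC p n Y) (hp : p ≠ 2) :
    ∃ H₁ H₂ : Subgroup Y, UnifHyp p n Y H₁ H₂ := by
  obtain ⟨H₁, hH₁, hi₁, hl₁⟩ := exists_M (i := 2) (by omega : 3 ≤ n) hY le_rfl (by omega)
  obtain ⟨H₂, hH₂, hi₂, hl₂⟩ := exists_M (i := n - 2) (by omega : 3 ≤ n) hY (by omega) (by omega)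
  refine ⟨H₁, H₂, ⟨hi₁, hi₂, hl₁, hl₂, ?_, fun h => absurd h hp⟩⟩
  intro g
  rw [mc4_uniform_iff hn hY hp g, hH₁, hH₂]

end Cfsg.Agent.Helper18.MCQ
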