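import Mathlib
import Cfsg.Agent.Lib.MCQ.MCQDefs
import Cfsg.Agent.Lib.MC.MCTwo
import Cfsg.Agent.Lib.MC.MCCard
import Cfsg.Agent.S0113

/-!
# PIECE MCQ-UTWO (small-medium): the two-subgroup description of the uniform elements, `p = 2`

`Cfsg.Agent.S0113.result n (by omega) hY.1 hY.2` gives a cyclic `C ≤ Y` of index `2`.  `C` is normal (index 2) with
abelian quotient, so `K Y 2 = commutator Y ≤ C` (`K_two_eq_commutator`).  For `2 ≤ i`, `i + 2 ≤ n` let `H` be the subgroup of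
`exists_M` (`g ∈ H ↔ InM Y i g`, index `2`).  Every `g ∈ C` satisfies `InM Y i g`: for `a ∈ K Y i ≤ K Y 2 ≤ C`
(`K_antitone`) the elements `a, g` of the commutative group `C` commute, so `⁅a, g⁆ = 1`.  Hence `C ≤ H`, both of index `2`,
so `C = H`: `InM Y i g ↔ g ∈ C`.  Therefore `IsUniform n Y g ↔ g ∉ C` (use `i = 2` for `←`... careful: `IsUniform` is
`∀ i, 2 ≤ i → i + 2 ≤ n → ¬ InM Y i g`).  Take `H₁ = H₂ = C`.
-/

set_option autoImplicit false

namespace Cfsg.Agent.Helper18.MCQ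

open Cfsg.Agent.Helper21.MC

variable {Y : Type*} [Group Y] [Finite Y] {n : ℕ}

open scoped commutatorElement in
theorem exists_unifHyp_two (hn : 4 ≤ n) (hY : IsMC 2 n Y) :
    ∃ H₁ H₂ : Subgroup Y, UnifHyp 2 n Y H₁ H₂ := by
  haveI : Fact (Nat.Prime 2) := ⟨Nat.prime_two⟩
  obtain ⟨C, hCc, hCi⟩ := Cfsg.Agent.S0113.result n (by omega) hY.1 hY.2
  haveI hCn : C.Normal := Subgroup.normal_of_index_eq_two hCi
  have hK2 : K Y 2 ≤ C := by
    rw [K_two_eq_commutator]
    apply Subgroup.Normal.quotient_commutative_iff_commutator_le.mp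
    have hcard : Nat.card (Y ⧸ C) = 2 := by
      rw [← Subgroup.index_eq_card]; exact hCi
    haveI : IsCyclic (Y ⧸ C) := isCyclic_of_prime_card (p := 2) hcard
    infer_instance
  have hInM : ∀ i, 2 ≤ i → ∀ g ∈ C, InM Y i g := by
    intro i hi g hg a ha
    have haC : a ∈ C := hK2 (K_antitone hi ha)
    haveI := hCc
    have hcomm : a * g = g * a :=
      congrArg Subtype.val (mul_comm' (⟨a, haC⟩ : C) ⟨g, hg⟩)
    have h1 : ⁅a, g⁆ = 1 := commutatorElement_eq_one_iff_mul_comm.mpr hcomm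
    rw [h1]
    exact Subgroup.one_mem _
  have hiff : ∀ i, 2 ≤ i → i + 2 ≤ n → ∀ g, InM Y i g ↔ g ∈ C := by
    intro i hi hin g
    obtain ⟨H, hH, hHi, -⟩ := exists_M (p := 2) (by omega) hY hi hin
    have hCH : C ≤ H := fun g hg => (hH g).mpr (hInM i hi g hg)
    have hrel := Subgroup.relIndex_mul_index hCH
    rw [hHi, hCi] at hrel
    have hrel1 : C.relIndex H = 1 := by omega
    have hHC : H ≤ C := Subgroup.relIndex_eq_one.mp hrel1
    rw [← hH g]
    exact ⟨fun h => hHC h, fun h => hCH h⟩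
  refine ⟨C, C, ⟨hCi, hCi, hK2, hK2, fun g => ?_, fun _ => rfl⟩⟩
  constructor
  · intro hu
    have h2 := hu 2 le_rfl (by omega)
    rw [hiff 2 le_rfl (by omega)] at h2
    exact ⟨h2, h2⟩
  · rintro ⟨hg, -⟩ i hi hin
    rw [hiff i hi hin]
    exact hg

end Cfsg.Agent.Helper18.MCQ
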